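import Groth.Agent.AlgSt.K747.IsoSheaf
import Groth.Agent.AlgSt.K747.Cover
import Groth.Agent.AlgSt.K747.Coc
import Groth.Agent.AlgSp.K594.Cover
/-!
K742.Cop : a small family of functors `(Sch/U i) ⟶ 𝒳` into a stack comes from a functor `(Sch/∐ U i) ⟶ 𝒳`.
-/

set_option autoImplicit false
set_option backward.isDefEq.respectTransparency false
set_option backward.isDefEq.respectTransparency.types false

universe v₂ u₂ u

open CategoryTheory Functor AlgebraicGeometry Limits K751.FG K751.Test K594.Cover K747.Sc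

namespace K742.Cop

variable {S : Scheme.{u}} {𝒳 : BasedCategory.{v₂, u₂} (Over S)}

/-- `J` is finer than the Zariski topology -/
def Zar (J : GrothendieckTopology (Over S)) : Prop :=
  ∀ {V : Over S} (R : Sieve V), (∀ x : V.left, ∃ (W : Over S) (g : W ⟶ V), R g ∧ IsOpenImmersion g.left ∧
    x ∈ Set.range g.left) → R ∈ J V

theorem zar_fppf (S : Scheme.{u}) : Zar (QuotSh.J Scheme.fppfPrecoverage S) := by
  intro V R h
  refine K747.Cover.mem_J_iff.2 fun x => ?_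
  obtain ⟨W, g, hg, ho, hx⟩ := h x
  exact ⟨W, g, hg, inferInstance, inferInstance, hx⟩

theorem zar_etale (S : Scheme.{u}) : Zar (QuotSh.J Scheme.etalePrecoverage S) := by
  intro V R h
  refine K747.Cover.mem_JE_iff.2 fun x => ?_
  obtain ⟨W, g, hg, ho, hx⟩ := h x
  exact ⟨W, g, hg, inferInstance, hx⟩

variable {J : GrothendieckTopology (Over S)} (hJ : Zar J) (hp : Stk.IsPrestack J 𝒳)

include hJ hp in
/-- over the empty scheme there is exactly one morphism -/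
theorem existsUnique_empty {V' V : Over S} (hV : IsEmpty V'.left) {y' y : 𝒳.obj}
    (hy' : 𝒳.p.obj y' = V') (hy : 𝒳.p.obj y = V) (h : V' ⟶ V) : ∃! ψ : y' ⟶ y, 𝒳.p.IsHomLift h ψ := by
  subst hy' hy
  obtain ⟨ψ, ⟨h1, -⟩, h3⟩ := glueFrom_of_isPrestack hp y' ⊥ (hJ ⊥ (fun x => hV.elim x)) h
    (fun z a ha => ha.elim) (fun z a ha => ha.elim) (fun z' z b a ha => ha.elim)
  exact ⟨ψ, isHomLift_of_map_eq ψ h1, fun ψ' h' => h3 ψ' ⟨map_eq_of_isHomLift ψ' h', fun z a ha => ha.elim⟩⟩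

variable {I : Type u} (U : I → Over S) (x : ∀ i, FibCat.overCat (U i) ⥤ᵇ 𝒳)

/-- a local representation of an arrow to the disjoint union -/
abbrev Rp (V : Over S) := Σ i, (V ⟶ U i)

variable {U}

theorem rp_unique {V : Over S} (hV : Nonempty V.left) (r r' : Rp U V) (h : r.2 ≫ sigι U r.1 = r'.2 ≫ sigι U r'.1) :
    r = r' := by
  obtain ⟨i, b⟩ := r
  obtain ⟨j, c⟩ := r'
  obtain ⟨v⟩ := hV
  have h1 : Sigma.ι (fun i => (U i).left) i (b.left v) = Sigma.ι (fun i => (U i).left) j (c.left v) := by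
    have h2 := congrArg (fun k : V ⟶ sig U => k.left v) h
    dsimp only at h2
    rw [Over.comp_left, Over.comp_left, Scheme.Hom.comp_apply, Scheme.Hom.comp_apply] at h2
    exact h2
  have h3 := (sigmaι_eq_iff (fun i => (U i).left) i j _ _).1 h1
  have hij : i = j := congrArg Sigma.fst h3
  subst hij
  have h4 : b = c := by
    ext : 1
    have h5 := congrArg (fun k : V ⟶ sig U => k.left) h
    dsimp only at h5
    rw [Over.comp_left, Over.comp_left] at h5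
    exact (cancel_mono (Sigma.ι (fun i => (U i).left) i)).1 h5
  rw [h4]

/-- the object of a representation -/
def ob {V : Over S} (r : Rp U V) : 𝒳.obj := (x r.1).obj (Over.mk r.2)

theorem ob_obj {V : Over S} (r : Rp U V) : 𝒳.p.obj (ob x r) = V := K747.Sc.p_obj (x r.1) r.2

theorem isHomLift_eqToHom {V : Over S} {a b : 𝒳.obj} (h : a = b) (ha : 𝒳.p.obj a = V) :
    𝒳.p.IsHomLift (𝟙 V) (eqToHom h) := by
  subst h ha
  rw [eqToHom_refl]
  infer_instance

open Classical in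
/-- the morphism between the objects of two representations -/
noncomputable def mor {V' V : Over S} (h : V' ⟶ V) (r' : Rp U V') (r : Rp U V)
    (hc : r'.2 ≫ sigι U r'.1 = h ≫ r.2 ≫ sigι U r.1) : ob x r' ⟶ ob x r :=
  if e : r' = ⟨r.1, h ≫ r.2⟩ then eqToHom (congrArg (ob x) e) ≫ (x r.1).map (om h r.2 (h ≫ r.2) rfl) else
    (existsUnique_empty hJ hp (not_nonempty_iff.1 fun hV => e (rp_unique hV r' ⟨r.1, h ≫ r.2⟩ (by
      rw [hc]; exact (Category.assoc _ _ _).symm))) (ob_obj x r') (ob_obj x r) h).choose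

theorem mor_lift {V' V : Over S} (h : V' ⟶ V) (r' : Rp U V') (r : Rp U V)
    (hc : r'.2 ≫ sigι U r'.1 = h ≫ r.2 ≫ sigι U r.1) : 𝒳.p.IsHomLift h (mor hJ hp x h r' r hc) := by
  unfold mor
  split_ifs with e
  · have h1 := isHomLift_eqToHom (congrArg (ob x) e) (ob_obj x r')
    have h2 := om_lift (x r.1) h r.2 (h ≫ r.2) rfl
    exact IsHomLift.comp_lift_id_left 𝒳.p h _ _
  · exact (existsUnique_empty hJ hp (not_nonempty_iff.1 fun hV => e (rp_unique hV r' ⟨r.1, h ≫ r.2⟩ (by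
      rw [hc]; exact (Category.assoc _ _ _).symm))) (ob_obj x r') (ob_obj x r) h).choose_spec.1

theorem mor_eq {V' V : Over S} (h : V' ⟶ V) (r : Rp U V)
    (hc : (h ≫ r.2) ≫ sigι U r.1 = h ≫ r.2 ≫ sigι U r.1) :
    mor hJ hp x h ⟨r.1, h ≫ r.2⟩ r hc = (x r.1).map (om h r.2 (h ≫ r.2) rfl) := by
  unfold mor
  rw [dif_pos rfl]
  exact Category.id_comp _

theorem mor_id {V : Over S} (r : Rp U V) (hc : r.2 ≫ sigι U r.1 = 𝟙 V ≫ r.2 ≫ sigι U r.1) :
    mor hJ hp x (𝟙 V) r r hc = 𝟙 _ := by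
  rcases isEmpty_or_nonempty V.left with hV | hV
  · exact (existsUnique_empty hJ hp hV (ob_obj x r) (ob_obj x r) (𝟙 V)).unique (mor_lift hJ hp x _ _ _ hc)
      (IsHomLift.id (ob_obj x r))
  · have key : ∀ (r' : Rp U V) (e : r' = ⟨r.1, 𝟙 V ≫ r.2⟩) (hc : r'.2 ≫ sigι U r'.1 = 𝟙 V ≫ r.2 ≫ sigι U r.1)
        (e' : ob x r' = ob x r), mor hJ hp x (𝟙 V) r' r hc = eqToHom e' := by
      rintro _ rfl hc e'
      rw [mor_eq]
      have h1 : ∀ (b : V ⟶ U r.1) (hb : b = 𝟙 V ≫ r.2) (e' : (x r.1).obj (Over.mk b) = ob x r),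
          (x r.1).map (om (𝟙 V) r.2 b hb.symm) = eqToHom e' := by
        intro b hb e'
        rw [Category.id_comp] at hb
        subst hb
        exact K747.Sc.map_om_id (x r.1) (Category.id_comp _)
      exact h1 _ rfl e'
    have := key r (by rw [Category.id_comp]) hc rfl
    rw [this]
    rfl

theorem mor_comp {V'' V' V : Over S} (h : V' ⟶ V) (h' : V'' ⟶ V') (h'' : V'' ⟶ V) (e : h' ≫ h = h'')
    (r'' : Rp U V'') (r' : Rp U V') (r : Rp U V)
    (hc : r'.2 ≫ sigι U r'.1 = h ≫ r.2 ≫ sigι U r.1) (hc' : r''.2 ≫ sigι U r''.1 = h' ≫ r'.2 ≫ sigι U r'.1)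
    (hc'' : r''.2 ≫ sigι U r''.1 = h'' ≫ r.2 ≫ sigι U r.1) :
    mor hJ hp x h' r'' r' hc' ≫ mor hJ hp x h r' r hc = mor hJ hp x h'' r'' r hc'' := by
  subst e
  rcases isEmpty_or_nonempty V''.left with hV | hV
  · have h1 := mor_lift hJ hp x _ _ _ hc
    have h2 := mor_lift hJ hp x _ _ _ hc'
    exact (existsUnique_empty hJ hp hV (ob_obj x r'') (ob_obj x r) (h' ≫ h)).unique
      (IsHomLift.comp 𝒳.p _ _ _ _) (mor_lift hJ hp x _ _ _ hc'')
  · obtain ⟨v⟩ := hV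
    have e1 : r' = ⟨r.1, h ≫ r.2⟩ := rp_unique ⟨h'.left v⟩ _ _ (by rw [hc]; exact (Category.assoc _ _ _).symm)
    subst e1
    have e2 : r'' = ⟨r.1, h' ≫ h ≫ r.2⟩ := rp_unique ⟨v⟩ _ _ (by rw [hc']; exact (Category.assoc _ _ _).symm)
    subst e2
    have h3 : ∀ (b : V'' ⟶ U r.1) (hb : b = (h' ≫ h) ≫ r.2) (hc'' : b ≫ sigι U r.1 = (h' ≫ h) ≫ r.2 ≫ sigι U r.1),
        mor hJ hp x (h' ≫ h) ⟨r.1, b⟩ r hc'' = (x r.1).map (om (h' ≫ h) r.2 b hb.symm) := by
      rintro _ rfl hc''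
      exact mor_eq hJ hp x (h' ≫ h) r hc''
    rw [h3 _ (Category.assoc _ _ _).symm]
    rw [mor_eq hJ hp x h r]
    have h4 : mor hJ hp x h' ⟨r.1, h' ≫ h ≫ r.2⟩ ⟨r.1, h ≫ r.2⟩ hc' = (x r.1).map (om h' (h ≫ r.2) (h' ≫ h ≫ r.2) rfl) :=
      mor_eq hJ hp x h' ⟨r.1, h ≫ r.2⟩ hc'
    rw [h4]
    exact K747.Sc.map_om_comp (x r.1) rfl rfl

variable (U) in
/-- the sieve of arrows which factor through a summand -/
def sv : Sieve (sig U) where
  arrows V a := ∃ r : Rp U V, r.2 ≫ sigι U r.1 = a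
  downward_closed := by
    rintro V V' a ⟨r, rfl⟩ g
    exact ⟨⟨r.1, g ≫ r.2⟩, Category.assoc _ _ _⟩

include hJ in
theorem sv_mem : sv U ∈ J (sig U) := by
  refine hJ _ fun y => ?_
  obtain ⟨⟨i, y'⟩, hy⟩ := (sigmaMk (fun i => (U i).left)).surjective y
  rw [sigmaMk_mk] at hy
  refine ⟨U i, sigι U i, ⟨⟨i, 𝟙 _⟩, Category.id_comp _⟩, ?_, ⟨y', hy⟩⟩
  change IsOpenImmersion (Sigma.ι (fun i => (U i).left) i)
  infer_instance

/-- the descent datum -/
noncomputable def dd : Stk.sieveCat (sv U) ⥤ᵇ 𝒳 :=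
  mkFunctor (𝒳 := Stk.sieveCat (sv U)) (fun a => ob x a.property.choose)
    (fun {a b} f => mor hJ hp x f.hom.left a.property.choose b.property.choose (by
      rw [a.property.choose_spec, b.property.choose_spec]
      exact (Over.w f.hom).symm))
    (fun {a b} f => mor_lift hJ hp x _ _ _ _)
    (fun a => mor_id hJ hp x _ _)
    (fun {a b c} f g => (mor_comp hJ hp x _ _ _ rfl _ _ _ _ _ _).symm)

include hJ in
/-- A family of functors into a stack extends to the disjoint union. -/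
theorem exists_functor (hs : Stk.IsStack J 𝒳) : ∃ y : FibCat.overCat (sig U) ⥤ᵇ 𝒳,
    ∀ i, Nonempty (BasedFunctor.comp (AlgSt.overMap (sigι U i)) y ≅ x i) := by
  have hp := isPrestack_of_isStack hs
  have h𝒳 := hs.1
  obtain ⟨E⟩ := exists_eff hs (sv_mem (U := U) hJ) (dd hJ hp x)
  refine ⟨yo h𝒳 E.pt E.pt_obj, fun i => ?_⟩
  -- the arrow of the summand
  have hi : (sv U).arrows (sigι U i) := ⟨⟨i, 𝟙 _⟩, Category.id_comp _⟩
  let a : (sv U).arrows.category := ⟨Over.mk (sigι U i), hi⟩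
  let r : Rp U (U i) := a.property.choose
  have hr : r.2 ≫ sigι U r.1 = sigι U i := a.property.choose_spec
  have hr' : (𝟙 (U i) : U i ⟶ U i) ≫ sigι U i = 𝟙 (U i) ≫ r.2 ≫ sigι U r.1 := by rw [hr]
  let m : ob x (⟨i, 𝟙 (U i)⟩ : Rp U (U i)) ⟶ ob x r := mor hJ hp x (𝟙 (U i)) ⟨i, 𝟙 (U i)⟩ r hr'
  have hm : 𝒳.p.IsHomLift (𝟙 (U i)) m := mor_lift hJ hp x _ _ _ _
  let ε : ob x r ⟶ E.pt := E.ι a
  have hε : 𝒳.p.IsHomLift (sigι U i) ε := E.lift a
  let δ : top (x i) ⟶ E.pt := m ≫ ε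
  have hδ : 𝒳.p.IsHomLift (sigι U i) δ := IsHomLift.comp_lift_id_left 𝒳.p _ _ _
  let α : BasedFunctor.comp (AlgSt.overMap (sigι U i)) (yo h𝒳 E.pt E.pt_obj) ⟶ x i :=
    natOfCocones h𝒳 (𝒳 := FibCat.overCat (U i)) (y := E.pt) (fun b => b.hom ≫ sigι U i)
      (fun b => yoε h𝒳 E.pt E.pt_obj ((Over.map (sigι U i)).obj b)) (fun b => topε (x i) b ≫ δ)
      (fun b => yoε_lift h𝒳 E.pt E.pt_obj ((Over.map (sigι U i)).obj b))
      (fun b => by
        have h1 := topε_lift (x i) b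
        exact IsHomLift.comp 𝒳.p _ _ _ _)
      (fun {b c} f => yo_map_yoε h𝒳 E.pt E.pt_obj ((Over.map (sigι U i)).map f))
      (fun {b c} f => by
        have h1 : (x i).map f ≫ topε (x i) c = topε (x i) b := map_topε (x i) f
        rw [← Category.assoc, h1])
  have := isIso_natTrans h𝒳 α
  exact ⟨asIso α⟩

end K742.Cop
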