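import Groth.Agent.CurvSt.K742.AtlasU
import Groth.Agent.CurvSt.K742.Coprod
import Groth.Agent.Stk.K751.Fp
import Groth.Agent.Stk.K751.OfPsh
import Groth.Agent.AlgSp.K594.Atlas
import Groth.Agent.AlgSp.K629.Cover
import Groth.Agent.AlgSt.K735.PtsSp
import Groth.Agent.AlgSt.K737.Atlas
/-!
K742.Atlas0 : atlases from small families of charts, flat charts (hom universe `u`).
-/

set_option autoImplicit false
set_option backward.isDefEq.respectTransparency false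
set_option backward.isDefEq.respectTransparency.types false
universe w v₂ u₂ v u

open CategoryTheory Opposite K734.Fib AlgebraicGeometry Limits K747 K747.Sc K594.Cover

namespace K742.Atlas0

theorem isStack_overCat {S : Scheme.{u}} (U : Over S) : Stk.IsStack (AlgSp.J S) (FibCat.overCat U) :=
  (K751.OfPsh.isStack_overCat_iff U _).2 (fun V R hR => K747.Top.isSheafFor_yoneda Scheme.fppfPrecoverage U V R hR)

variable {S : Scheme.{u}} {𝒳 : BasedCategory.{u, w} (Over S)}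
variable {T : Over S}

theorem isSheaf_P (hs : Stk.IsPrestack (AlgSp.J S) 𝒳) {U : Over S} (x : FibCat.overCat T ⥤ᵇ 𝒳)
    (z : FibCat.overCat U ⥤ᵇ 𝒳) : Presheaf.IsSheaf (AlgSp.J S) (P hs.1 x z) := by
  rw [isSheaf_iff_isSheaf_of_type]
  have h1 : Stk.IsStack (AlgSp.J S) (FibCat.fp x z) := K751.Fp.isStack_fp (isStack_overCat T) (isStack_overCat U) hs
  exact K751.OfPsh.isSheaf_of_isStack _
    ((K751.Inv.isStack_iff_of_isEquivOver (toFp_isEquivOver.{u + 1} hs.1 x z)).2 h1)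

section pj

variable (h𝒳 : FibCat.IsFibGrpd 𝒳.p) {U U' : Over S} (x : FibCat.overCat T ⥤ᵇ 𝒳) (z : FibCat.overCat U ⥤ᵇ 𝒳)
  (k : U' ⟶ U)

/-- precomposition of the second functor with a morphism of schemes -/
noncomputable def pj : P h𝒳 x (BasedFunctor.comp (AlgSt.overMap k) z) ⟶ P h𝒳 x z where
  app V := ↾fun s => ⟨(⟨s.down.t, s.down.u ≫ k, s.down.φ, s.down.over⟩ : Sec x z _)⟩
  naturality V V' g := by
    ext s
    refine Eq.symm ((psh_map_eq_iff.{u+1} h𝒳).2 ?_)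
    obtain ⟨h1, h2, h3⟩ := isRes_res h𝒳 g.unop s.down
    refine ⟨h1, ?_, ?_⟩
    · change g.unop ≫ s.down.u ≫ k = (res h𝒳 g.unop s.down).u ≫ k
      rw [← h2, Category.assoc]
    · exact h3

theorem isPullback_pj : IsPullback (pj h𝒳 x z k) (prU h𝒳 x (BasedFunctor.comp (AlgSt.overMap k) z)) (prU h𝒳 x z)
    ((AlgSp.pyon S).map k) := by
  apply K739.Diag.isPullback_psh
  · intro V s
    rfl
  · rintro V ⟨t, u, φ, o⟩ ⟨t', u', φ', o'⟩ h1 h2
    obtain rfl : u = u' := congrArg ULift.down h2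
    have h3 : (⟨t, u ≫ k, φ, o⟩ : Sec x z V) = ⟨t', u ≫ k, φ', o'⟩ := congrArg ULift.down h1
    injection h3 with h4 h5 h6
    subst h4
    have h7 := eq_of_heq h6
    subst h7
    rfl
  · rintro V ⟨t, u, φ, o⟩ ⟨u'⟩ h
    obtain rfl : u = u' ≫ k := congrArg ULift.down h
    exact ⟨⟨(⟨t, u', φ, o⟩ : Sec x (BasedFunctor.comp (AlgSt.overMap k) z) V)⟩, rfl, rfl⟩

end pj

section fam

variable {I : Type u} {U : I → Over S} {X : FibCat.overCat (sig U) ⥤ᵇ 𝒳}

/-- a functor from a disjoint union is representable by algebraic spaces with a smooth-like property when its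
restrictions are -/
theorem repByAlgSpWith_sig (hs : Stk.IsPrestack (AlgSp.J S) 𝒳) {Q : MorphismProperty Scheme.{u}}
    (hE : K597.EtLoc Q) (hX : ∀ i, AlgSt.RepByAlgSpWith (AlgSp.LocP Q) (BasedFunctor.comp (AlgSt.overMap (sigι U i)) X)) :
    AlgSt.RepByAlgSpWith (AlgSp.LocP Q) X := by
  intro T y
  refine (Rep.with_iff (AlgSp.LocP Q) (FibCat.fpFst y X) (toFp_isEquivOver.{u + 1} hs.1 y X)).2 ?_
  have hG := isSheaf_P hs y X
  let G : AlgSp.Sp S := ⟨P hs.1 y X, hG⟩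
  choose hF hA hQ using fun i => repByAlgSpWith_psh (x := y) hs.1 _ (hX i)
  let F : I → AlgSp.Sp S := fun i => ⟨P hs.1 y (BasedFunctor.comp (AlgSt.overMap (sigι U i)) X), hF i⟩
  let f : ∀ i, F i ⟶ G := fun i => ObjectProperty.homMk (pj hs.1 y X (sigι U i))
  have sq : ∀ i, IsPullback (f i) (ObjectProperty.homMk (prU hs.1 y (BasedFunctor.comp (AlgSt.overMap (sigι U i)) X)) :
      F i ⟶ (AlgSp.yon S).obj (U i)) (ObjectProperty.homMk (prU hs.1 y X) : G ⟶ (AlgSp.yon S).obj (sig U))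
      ((AlgSp.yon S).map (sigι U i)) := fun i =>
    IsPullback.of_map_of_faithful (sheafToPresheaf (AlgSp.J S) (Type (u + 1))) (isPullback_pj hs.1 y X (sigι U i))
  have hopen : ∀ i, AlgSp.RepWith @IsOpenImmersion (f i) := fun i => by
    refine MorphismProperty.of_isPullback (sq i).flip ((AlgSp.repWith_yon_map_iff _ _).2 ?_)
    change IsOpenImmersion (Sigma.ι (fun i => (U i).left) i)
    infer_instance
  have het : ∀ i, AlgSp.RepWith @Etale (f i) := fun i =>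
    K594.Basic.RepWith.mono_prop (fun _ _ g hg => by
      have : IsOpenImmersion g := hg
      exact inferInstanceAs (Etale g)) (hopen i)
  have hloc : ∀ {V : Over S} (s : G.obj.obj (op V)), ∃ (κ' : Type u) (W : κ' → Over S)
      (g : ∀ k, W k ⟶ V) (_ : Fam g) (i : κ' → I) (x : ∀ k, (F (i k)).obj.obj (op (W k))),
      ∀ k, (f (i k)).hom.app (op (W k)) (x k) = G.obj.map (g k).op s := by
    intro V s
    obtain ⟨V', g, h, sq', hfam⟩ := K594.FamRep.exists_pieces U s.down.u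
    refine ⟨I, V', g, hfam, id, ?_⟩
    have key : ∀ i, ∃ x : (F i).obj.obj (op (V' i)), (f i).hom.app (op (V' i)) x = G.obj.map (g i).op s := by
      intro i
      have e : (prU hs.1 y X).app (op (V' i)) (G.obj.map (g i).op s) =
          ((AlgSp.pyon S).map (sigι U i)).app (op (V' i)) ⟨h i⟩ := by
        refine congrArg ULift.up ?_
        have h1 := (isRes_res hs.1 (g i) s.down).hu
        exact h1.symm.trans (sq' i).w.symm
      obtain ⟨n, hn, -⟩ := exists_of_isPullback (isPullback_pj hs.1 y X (sigι U i)) _ _ e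
      exact ⟨n, hn⟩
    choose x hx using key
    exact ⟨x, hx⟩
  have hGA : AlgSp.IsAlgSpace G := K594.Atlas.isAlgSpace_of_family f hA het hloc
  refine ⟨hG, hGA, ?_⟩
  have hpm : Rep.pMap (BasedFunctor.comp (toFp.{u + 1} hs.1 y X) (FibCat.fpFst y X)) = prT hs.1 y X :=
    pMap_toFp_fst hs.1 y X
  rw [hpm]
  refine K629.Cover.locP_of_cover F f hA ?_ _ @Etale ?_ ?_ ?_
  · intro p
    obtain ⟨q, rfl⟩ := AlgSp.Points.mk_surjective p
    have hq : ∃ (i : I) (k : q.pt ⟶ U i), k ≫ sigι U i = q.val.down.u := by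
      obtain ⟨⟨i, y'⟩, hy⟩ := (sigmaMk (fun i => (U i).left)).surjective
        (q.val.down.u.left (IsLocalRing.closedPoint q.K))
      rw [sigmaMk_mk] at hy
      refine ⟨i, Over.homMk (IsOpenImmersion.lift (Sigma.ι (fun i => (U i).left) i) q.val.down.u.left ?_) ?_, ?_⟩
      · rintro _ ⟨z, rfl⟩
        have : z = IsLocalRing.closedPoint q.K := Subsingleton.elim (α := PrimeSpectrum q.K) _ _
        subst this
        exact ⟨y', hy⟩
      · have h1 : Sigma.ι (fun i => (U i).left) i ≫ (sig U).hom = (U i).hom := by simp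
        rw [← h1, ← Category.assoc, IsOpenImmersion.lift_fac]
        exact Over.w q.val.down.u
      · ext : 1
        exact IsOpenImmersion.lift_fac _ _ _
    obtain ⟨i, k, hk⟩ := hq
    obtain ⟨n, hn, -⟩ := exists_of_isPullback (isPullback_pj hs.1 y X (sigι U i)) q.val (⟨k⟩ : ((AlgSp.pyon S).obj (U i)).obj (op q.pt))
      (congrArg ULift.up hk.symm)
    refine ⟨i, AlgSp.Points.mk ⟨q.K, q.str, n⟩, ?_⟩
    rw [AlgSp.Points.map_mk]
    congr 1
    obtain ⟨K, str, val⟩ := q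
    exact congrArg (fun v => (⟨K, str, v⟩ : AlgSp.FieldPt G)) hn
  · intro i
    exact K597.locP_of_repWith (fun _ _ _ e f he hf => by
      have : Etale e := he
      have : Etale f := hf
      exact inferInstanceAs (Etale (e ≫ f))) (het i)
  · intro A B Xf ff gg h1 h2 h3
    refine hE.descend' _ fun b => ?_
    obtain ⟨i, hi⟩ := h2 b
    exact ⟨_, _, h1 i, hi, h3 i⟩
  · intro i
    have h1 : f i ≫ (ObjectProperty.homMk (prT hs.1 y X) : G ⟶ (AlgSp.yon S).obj T) =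
        ObjectProperty.homMk (prT hs.1 y (BasedFunctor.comp (AlgSt.overMap (sigι U i)) X)) := rfl
    change AlgSp.LocP Q (f i ≫ (ObjectProperty.homMk (prT hs.1 y X) : G ⟶ (AlgSp.yon S).obj T))
    rw [h1]
    exact hQ i

end fam

section flat

variable {S : Scheme.{u}} {𝒳 : BasedCategory.{u, w} (Over S)} {T U : Over S}

theorem isAlgSpaceP_I_of_flat (hs : Stk.IsPrestack (AlgSp.J S) 𝒳) {z : FibCat.overCat U ⥤ᵇ 𝒳}
    (hz1 : AlgSt.RepByAlgSpWith (AlgSp.LocP @Flat) z)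
    (hz3 : AlgSt.RepByAlgSpWith (AlgSp.LocP @LocallyOfFinitePresentation) z)
    (hz2 : AlgSt.RepByAlgSpWith AlgSp.IsSurjectiveMor z)
    (x₁ x₂ : FibCat.overCat T ⥤ᵇ 𝒳) : AlgSp.IsAlgSpaceP (I hs.1 x₁ x₂) := by
  obtain ⟨h1, hA1, -⟩ := repByAlgSpWith_psh (x := x₁) hs.1 _ hz1
  obtain ⟨h2, hA2, hsm⟩ := repByAlgSpWith_psh (x := x₂) hs.1 _ hz1
  obtain ⟨h2', -, hsurj⟩ := repByAlgSpWith_psh (x := x₂) hs.1 _ hz2
  obtain ⟨h2'', -, hlfp⟩ := repByAlgSpWith_psh (x := x₂) hs.1 _ hz3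
  have sq := IsPullback.of_hasPullback (prI hs.1 x₁ x₂) (prT hs.1 x₂ z)
  have sq2 := isPullback_mul sq
  have hN : AlgSp.IsAlgSpaceP (pullback (prI hs.1 x₁ x₂) (prT hs.1 x₂ z)) :=
    isAlgSpaceP_of_isPullback sq2 ⟨h1, hA1⟩ ⟨h2, hA2⟩
  obtain ⟨hN1, hN2⟩ := hN
  have hI : Presheaf.IsSheaf (AlgSp.J S) (I hs.1 x₁ x₂) := isSheaf_I hs.1 Scheme.fppfPrecoverage hs x₁ x₂
  refine ⟨hI, Groth.Agent.S10104.result S ⟨_, hI⟩ ⟨⟨_, hN1⟩, hN2⟩
    (ObjectProperty.homMk (pullback.fst (prI hs.1 x₁ x₂) (prT hs.1 x₂ z))) ?_⟩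
  intro V ξ F' fst snd sq3
  have sq4 : IsPullback (fst ≫ pullback.snd (prI hs.1 x₁ x₂) (prT hs.1 x₂ z)) snd (prT hs.1 x₂ z) (ξ ≫ prI hs.1 x₁ x₂) :=
    (sq3.flip.paste_vert sq).flip
  obtain ⟨hF1, hF2⟩ := isAlgSpaceP_of_isPullback sq4 ⟨h2, hA2⟩ ⟨((AlgSp.yon S).obj V).property, AlgSp.IsAlgSpace.yon_obj V⟩
  refine ⟨hF1, hF2, ?_⟩
  have sq5 : IsPullback (ObjectProperty.homMk (fst ≫ pullback.snd (prI hs.1 x₁ x₂) (prT hs.1 x₂ z)) : (⟨F', hF1⟩ : AlgSp.Sp S) ⟶ ⟨P hs.1 x₂ z, h2⟩)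
      (ObjectProperty.homMk snd : (⟨F', hF1⟩ : AlgSp.Sp S) ⟶ (AlgSp.yon S).obj V)
      (ObjectProperty.homMk (prT hs.1 x₂ z) : (⟨P hs.1 x₂ z, h2⟩ : AlgSp.Sp S) ⟶ (AlgSp.yon S).obj T)
      (ObjectProperty.homMk (ξ ≫ prI hs.1 x₁ x₂) : (AlgSp.yon S).obj V ⟶ (AlgSp.yon S).obj T) :=
    IsPullback.of_map_of_faithful (sheafToPresheaf (AlgSp.J S) (Type (u + 1))) sq4
  refine ⟨⟨?_, ?_⟩, ?_⟩
  · exact K609.Points.surjective_map_of_isPullback sq5.flip hsurj
  · exact K597.locP_bc K597.etLoc_flat sq5 hA2.hasAtlas (AlgSp.IsAlgSpace.yon_obj T).hasAtlas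
      (AlgSp.IsAlgSpace.yon_obj V).hasAtlas hsm
  · exact K597.locP_bc K597.etLoc_lfp sq5 hA2.hasAtlas (AlgSp.IsAlgSpace.yon_obj T).hasAtlas
      (AlgSp.IsAlgSpace.yon_obj V).hasAtlas hlfp

/-- a prestack with a flat, locally finitely presented and surjective chart from a scheme has a diagonal representable
by algebraic spaces -/
theorem diag_of_flat_chart (hs : Stk.IsPrestack (AlgSp.J S) 𝒳) (z : FibCat.overCat U ⥤ᵇ 𝒳)
    (hz1 : AlgSt.RepByAlgSpWith (AlgSp.LocP @Flat) z)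
    (hz3 : AlgSt.RepByAlgSpWith (AlgSp.LocP @LocallyOfFinitePresentation) z)
    (hz2 : AlgSt.RepByAlgSpWith AlgSp.IsSurjectiveMor z) :
    AlgSt.RepByAlgSp1 (FibCat.diag (FibCat.toSelf 𝒳)) := by
  intro T y
  exact (Rep.repByAlgSp_iff (toDiag_isEquivOver.{u + 1} hs.1 y)).2 (isAlgSpaceP_I_of_flat hs hz1 hz3 hz2 _ _)

end flat

end K742.Atlas0
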