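import Groth.Agent.CurvSt.K742.AtlasFam
import Groth.Agent.CurvSt.K742.AtlasFam0
import Groth.Agent.AlgSt.K735.Lift
/-!
K742.AtlasU (end) : the unconditional atlas criterion for stacks with morphisms in `Type (u+1)`.

* `diag_of_smooth_chart`, `diag_of_flat_chart` : a prestack with a smooth (or flat, locally finitely presented) surjective
  chart from a scheme has a diagonal representable by algebraic spaces.
* `isAlgStack_of_smooth_chart` : the criterion.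
* `hasAtlas_of_family`, `isAlgStack_of_family` : a `u`-small family of smooth charts, jointly surjective on points;
  `surj_of_geom` : points lifting over algebraically closed fields suffice.
-/

set_option autoImplicit false
set_option backward.isDefEq.respectTransparency false
set_option backward.isDefEq.respectTransparency.types false
universe w v₂ u₂ v u

open CategoryTheory Opposite K734.Fib AlgebraicGeometry Limits K747 K747.Sc K594.Cover

namespace K742.AtlasU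

variable {S : Scheme.{u}}

theorem boot (S : Scheme.{u}) : K734.Rep.Boot S := fun F U p hp => Groth.Agent.S10104.result S F U p hp

section points

variable {𝒳 : BasedCategory.{v, w} (Over S)}

/-- Points of `𝒳` come from a family of charts when all objects over algebraically closed fields do. -/
theorem surj_of_geom (h𝒳 : FibCat.IsFibGrpd 𝒳.p) {I : Type u} (U : I → Over S) (x : ∀ i, FibCat.overCat (U i) ⥤ᵇ 𝒳)
    (h : ∀ (Ω : Type u) [Field Ω] [IsAlgClosed Ω] (t : Spec (CommRingCat.of Ω) ⟶ S)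
      (y : FibCat.overCat (Over.mk t) ⥤ᵇ 𝒳), ∃ (i : I) (k : Over.mk t ⟶ U i),
        Nonempty (BasedFunctor.comp (AlgSt.overMap k) (x i) ≅ y)) (p : AlgSt.Points 𝒳) :
    ∃ (i : I) (t : ↥(U i).left), AlgSt.Points.ofChart (x i) t = p := by
  obtain ⟨⟨K, str, ξ, hξ⟩, rfl⟩ := AlgSt.Points.mk_surjective p
  let Ω := AlgebraicClosure K
  let j : Spec (CommRingCat.of Ω) ⟶ Spec (CommRingCat.of K) := Spec.map (CommRingCat.ofHom (algebraMap K Ω))
  let b : (Over.mk (j ≫ str) : Over S) ⟶ Over.mk str := Over.homMk j rfl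
  let y₀ := K735.Fp.yonF h𝒳 ξ hξ
  obtain ⟨i, k, ⟨e⟩⟩ := h Ω (j ≫ str) (BasedFunctor.comp (AlgSt.overMap b) y₀)
  let t : ↥(Over.mk (j ≫ str) : Over S).left := (default : PrimeSpectrum Ω)
  refine ⟨i, k.left t, ?_⟩
  rw [← K735.PtsSp.ofChart_overMap, K735.PtsSp.ofChart_congr e, K735.PtsSp.ofChart_overMap]
  exact K735.Lift.ofChart_yonF h𝒳 ξ hξ _

end points

variable {𝒳 : BasedCategory.{u + 1, w} (Over S)}

theorem diag_of_smooth_chart (hs : Stk.IsPrestack (AlgSp.J S) 𝒳) {U : Over S} (x : FibCat.overCat U ⥤ᵇ 𝒳)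
    (h1 : AlgSt.RepByAlgSpWith (AlgSp.LocP @Smooth) x) (h2 : AlgSt.RepByAlgSpWith AlgSp.IsSurjectiveMor x) :
    AlgSt.RepByAlgSp1 (FibCat.diag (FibCat.toSelf 𝒳)) :=
  diag_of_atlas Scheme.fppfPrecoverage (K734.Rep.boot_fppf (boot S)) hs ⟨U, x, h1, h2⟩

theorem isAlgStack_of_smooth_chart (hs : Stk.IsStack (QuotSh.J Scheme.fppfPrecoverage S) 𝒳) {U : Over S}
    (x : FibCat.overCat U ⥤ᵇ 𝒳) (h1 : AlgSt.RepByAlgSpWith (AlgSp.LocP @Smooth) x)
    (h2 : AlgSt.RepByAlgSpWith AlgSp.IsSurjectiveMor x) : AlgSt.IsAlgStack Scheme.fppfPrecoverage 𝒳 :=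
  isAlgStack_of_atlas Scheme.fppfPrecoverage (K734.Rep.boot_fppf (boot S)) hs ⟨U, x, h1, h2⟩

theorem hasAtlas_of_family (hs : Stk.IsStack (QuotSh.J Scheme.fppfPrecoverage S) 𝒳) {Q : MorphismProperty Scheme.{u}}
    (hQ : K597.EtLoc Q) {I : Type u} (U : I → Over S)
    (x : ∀ i, FibCat.overCat (U i) ⥤ᵇ 𝒳) (hx : ∀ i, AlgSt.RepByAlgSpWith (AlgSp.LocP Q) (x i))
    (hsurj : ∀ p : AlgSt.Points 𝒳, ∃ (i : I) (t : ↥(U i).left), AlgSt.Points.ofChart (x i) t = p) :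
    AlgSt.HasAtlas (AlgSp.LocP Q) 𝒳 := by
  obtain ⟨X, hX⟩ := K742.Cop.exists_functor (K742.Cop.zar_fppf S) x hs
  have h1 : AlgSt.RepByAlgSpWith (AlgSp.LocP Q) X := repByAlgSpWith_sig (K751.Test.isPrestack_of_isStack hs) hQ
    (fun i => by
      obtain ⟨e⟩ := hX i
      exact K735.Rep.repByAlgSpWith_of_iso _ e.symm (hx i))
  refine ⟨sig U, X, h1, (K737.Atlas.surjective_iff hs.1 h1).2 ?_⟩
  intro p
  obtain ⟨i, t, rfl⟩ := hsurj p
  obtain ⟨e⟩ := hX i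
  exact ⟨(sigι U i).left t, by rw [← K735.PtsSp.ofChart_overMap, K735.PtsSp.ofChart_congr e]⟩

theorem isAlgStack_of_family (hs : Stk.IsStack (QuotSh.J Scheme.fppfPrecoverage S) 𝒳) {I : Type u} (U : I → Over S)
    (x : ∀ i, FibCat.overCat (U i) ⥤ᵇ 𝒳) (hx : ∀ i, AlgSt.RepByAlgSpWith (AlgSp.LocP @Smooth) (x i))
    (hsurj : ∀ p : AlgSt.Points 𝒳, ∃ (i : I) (t : ↥(U i).left), AlgSt.Points.ofChart (x i) t = p) :
    AlgSt.IsAlgStack Scheme.fppfPrecoverage 𝒳 :=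
  isAlgStack_of_atlas Scheme.fppfPrecoverage (K734.Rep.boot_fppf (boot S)) hs
    (hasAtlas_of_family hs K597.etLoc_smooth U x hx hsurj)

end K742.AtlasU

namespace K742.Atlas0

variable {S : Scheme.{u}}

variable {𝒳 : BasedCategory.{u, w} (Over S)}

theorem diag_of_smooth_chart (hs : Stk.IsPrestack (AlgSp.J S) 𝒳) {U : Over S} (x : FibCat.overCat U ⥤ᵇ 𝒳)
    (h1 : AlgSt.RepByAlgSpWith (AlgSp.LocP @Smooth) x) (h2 : AlgSt.RepByAlgSpWith AlgSp.IsSurjectiveMor x) :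
    AlgSt.RepByAlgSp1 (FibCat.diag (FibCat.toSelf 𝒳)) :=
  K747.Sc.diag_of_atlas Scheme.fppfPrecoverage (K734.Rep.boot_fppf (K742.AtlasU.boot S)) hs ⟨U, x, h1, h2⟩

theorem isAlgStack_of_smooth_chart (hs : Stk.IsStack (QuotSh.J Scheme.fppfPrecoverage S) 𝒳) {U : Over S}
    (x : FibCat.overCat U ⥤ᵇ 𝒳) (h1 : AlgSt.RepByAlgSpWith (AlgSp.LocP @Smooth) x)
    (h2 : AlgSt.RepByAlgSpWith AlgSp.IsSurjectiveMor x) : AlgSt.IsAlgStack Scheme.fppfPrecoverage 𝒳 :=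
  K747.Sc.isAlgStack_of_atlas Scheme.fppfPrecoverage (K734.Rep.boot_fppf (K742.AtlasU.boot S)) hs ⟨U, x, h1, h2⟩

theorem hasAtlas_of_family (hs : Stk.IsStack (QuotSh.J Scheme.fppfPrecoverage S) 𝒳) {Q : MorphismProperty Scheme.{u}}
    (hQ : K597.EtLoc Q) {I : Type u} (U : I → Over S)
    (x : ∀ i, FibCat.overCat (U i) ⥤ᵇ 𝒳) (hx : ∀ i, AlgSt.RepByAlgSpWith (AlgSp.LocP Q) (x i))
    (hsurj : ∀ p : AlgSt.Points 𝒳, ∃ (i : I) (t : ↥(U i).left), AlgSt.Points.ofChart (x i) t = p) :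
    AlgSt.HasAtlas (AlgSp.LocP Q) 𝒳 := by
  obtain ⟨X, hX⟩ := K742.Cop.exists_functor (K742.Cop.zar_fppf S) x hs
  have h1 : AlgSt.RepByAlgSpWith (AlgSp.LocP Q) X := repByAlgSpWith_sig (K751.Test.isPrestack_of_isStack hs) hQ
    (fun i => by
      obtain ⟨e⟩ := hX i
      exact K735.Rep.repByAlgSpWith_of_iso _ e.symm (hx i))
  refine ⟨sig U, X, h1, (K737.Atlas.surjective_iff hs.1 h1).2 ?_⟩
  intro p
  obtain ⟨i, t, rfl⟩ := hsurj p
  obtain ⟨e⟩ := hX i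
  exact ⟨(sigι U i).left t, by rw [← K735.PtsSp.ofChart_overMap, K735.PtsSp.ofChart_congr e]⟩

theorem isAlgStack_of_family (hs : Stk.IsStack (QuotSh.J Scheme.fppfPrecoverage S) 𝒳) {I : Type u} (U : I → Over S)
    (x : ∀ i, FibCat.overCat (U i) ⥤ᵇ 𝒳) (hx : ∀ i, AlgSt.RepByAlgSpWith (AlgSp.LocP @Smooth) (x i))
    (hsurj : ∀ p : AlgSt.Points 𝒳, ∃ (i : I) (t : ↥(U i).left), AlgSt.Points.ofChart (x i) t = p) :
    AlgSt.IsAlgStack Scheme.fppfPrecoverage 𝒳 :=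
  K747.Sc.isAlgStack_of_atlas Scheme.fppfPrecoverage (K734.Rep.boot_fppf (K742.AtlasU.boot S)) hs
    (hasAtlas_of_family hs K597.etLoc_smooth U x hx hsurj)

end K742.Atlas0
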