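import Groth.Agent.CurvSt.K742.PtModel
import Groth.Agent.CurvSt.K901.SchPre
import Groth.Agent.CurvSt.K898.StabFam
import Groth.Agent.Models.H57.GeoInt
import Groth.Agent.Sga7.H591.GeoFib
import Groth.Agent.S11100
/-!
K742.PreFam : a proper nodal model over a discrete valuation ring of a smooth proper geometrically connected curve of
genus `g`, with disjoint sections in the smooth locus, is a prestable pointed family of genus `g`.
-/

set_option autoImplicit false
universe u

open CategoryTheory CategoryTheory.Limits AlgebraicGeometry IsLocalRing CurvSt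

namespace K742.PreFam

open K742.PtModel K901.SchPre Groth.Agent

theorem geometricallyIntegral {k : Type u} [Field k] {C : Scheme.{u}} (f : C ⟶ Spec (CommRingCat.of k))
    (hC : Curve.IsSmoothProperCurve k C f) (h0 : IsIso f.appTop) : GeometricallyIntegral f := by
  refine ⟨fun K _ y Z fst snd h => ?_⟩
  obtain ⟨ψ, rfl⟩ : ∃ ψ : k →+* K, y = Spec.map (CommRingCat.ofHom ψ) :=
    ⟨(Spec.preimage y).hom, (Spec.map_preimage y).symm⟩
  obtain ⟨⟨h1, h2, h3, h4⟩, h5⟩ := Models.H57.GeoInt.isSmoothProperCurve_pullback f hC h0 ψ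
  have : Nonempty Z := by
    obtain ⟨z⟩ := (inferInstance : Nonempty ↥(pullback f (Spec.map (CommRingCat.ofHom ψ))))
    exact ⟨h.isoPullback.inv z⟩
  exact isIntegral_of_isOpenImmersion h.isoPullback.hom

variable {R : Type u} [CommRing R] [IsDomain R] [IsDiscreteValuationRing R]

theorem eq_bot_or (s : Spec (CommRingCat.of R)) : s = (⊥ : PrimeSpectrum R) ∨ s = closedPoint R := by
  by_cases h : s.asIdeal = ⊥
  · exact Or.inl (PrimeSpectrum.ext h)
  · refine Or.inr (PrimeSpectrum.ext ?_)
    exact eq_maximalIdeal (s.isPrime.isMaximal h)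

theorem gen_apply (K : Type u) [Field K] [Algebra R K] [IsFractionRing R K] (z : Spec (CommRingCat.of K)) :
    gen R K z = (⊥ : PrimeSpectrum R) := by
  apply PrimeSpectrum.ext
  have h9 : z = (⊥ : PrimeSpectrum K) := Subsingleton.elim _ _
  rw [h9]
  change Ideal.comap (algebraMap R K) ⊥ = ⊥
  exact Ideal.comap_bot_of_injective _ (IsFractionRing.injective R K)

/-- A field-valued point over the generic point factors through the generic point. -/
theorem exists_factor (K : Type u) [Field K] [Algebra R K] [IsFractionRing R K] {Ω : Type u} [Field Ω]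
    (t : Spec (CommRingCat.of Ω) ⟶ Spec (CommRingCat.of R)) (ht : t (closedPoint Ω) = (⊥ : PrimeSpectrum R)) :
    ∃ t' : Spec (CommRingCat.of Ω) ⟶ Spec (CommRingCat.of K), t' ≫ gen R K = t := by
  obtain ⟨ψ, rfl⟩ : ∃ ψ : R →+* Ω, t = Spec.map (CommRingCat.ofHom ψ) :=
    ⟨(Spec.preimage t).hom, (Spec.map_preimage t).symm⟩
  have hinj : Function.Injective ψ := by
    rw [injective_iff_map_eq_zero]
    intro r hr
    have h1 : r ∈ ((Spec.map (CommRingCat.ofHom ψ)) (closedPoint Ω)).asIdeal := by
      change ψ r ∈ maximalIdeal Ω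
      rw [hr]
      exact zero_mem _
    rw [ht] at h1
    exact h1
  refine ⟨Spec.map (CommRingCat.ofHom (IsFractionRing.lift (K := K) hinj)), ?_⟩
  rw [← Spec.map_comp, ← CommRingCat.ofHom_comp]
  congr 2
  ext r
  simp

variable (K : Type u) [Field K] [Algebra R K] [IsFractionRing R K] {C : Scheme.{u}}
  (f : C ⟶ Spec (CommRingCat.of K)) {X : Scheme.{u}} (p : X ⟶ Spec (CommRingCat.of R)) [IsProper p]
  (hn : Curv2.IsNodalFamily p) (i : C ⟶ X) (hi : IsPullback i f p (gen R K))

include hi hn in
theorem connectedSpace_fibre [GeometricallyIntegral f] {Ω : Type u} [Field Ω] [IsAlgClosed Ω]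
    (t : Spec (CommRingCat.of Ω) ⟶ Spec (CommRingCat.of R)) {Y : Scheme.{u}} (a : Y ⟶ X)
    (q : Y ⟶ Spec (CommRingCat.of Ω)) (hP : IsPullback a q p t) : ConnectedSpace Y := by
  have hfl := hn.1
  have hfp := hn.2.1
  rcases eq_bot_or (t (closedPoint Ω)) with ht | ht
  · obtain ⟨t', rfl⟩ := exists_factor K t ht
    have hw : a ≫ p = (q ≫ t') ≫ gen R K := by rw [hP.w, Category.assoc]
    have h1 : IsPullback (hi.lift a (q ≫ t') hw) q f t' := by
      refine IsPullback.of_right ?_ (hi.lift_snd _ _ _) hi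
      rw [hi.lift_fst]
      exact hP
    have : IsIntegral Y := GeometricallyIntegral.geometrically_isIntegral _ _ _ h1
    infer_instance
  · exact Groth.Agent.Sga7.H591.GeoFib.connectedSpace_fibre R K p f i hi q a t hP ht

include hi hn in
theorem mem_genSet [GeometricallyIntegral f] (g : ℕ)
    (hg : letI : C.Over (Spec (CommRingCat.of K)) := ⟨f⟩; Curv2.genus K C = g) (s : Spec (CommRingCat.of R)) :
    s ∈ GenSet p g := by
  have hfl := hn.1
  have hfp := hn.2.1
  have hcon : ∀ s, s ∈ ConSet p := by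
    intro s
    obtain ⟨Ω, _, _, t, rfl⟩ := K898.StabFam.exists_geometric_point (Spec (CommRingCat.of R)) s
    have hP := IsPullback.of_hasPullback p t
    refine (conSet_iff p hP).1 ⟨(nodSet_iff p hP).2 fun x _ => (isNodalFamily_iff p).1 hn x,
      connectedSpace_fibre K f p hn i hi t _ _ hP⟩
  refine ⟨hcon s, ?_⟩
  let K' := AlgebraicClosure K
  let t' : Spec (CommRingCat.of K') ⟶ Spec (CommRingCat.of K) := Spec.map (CommRingCat.ofHom (algebraMap K K'))
  let t := t' ≫ gen R K
  have hP := IsPullback.of_hasPullback p t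
  obtain ⟨h1, h2⟩ := (conSet_iff p hP).2 (hcon _)
  have h3 := eulerChar_eq p hP h1 h2
  let i1 : C.Over (Spec (CommRingCat.of K)) := ⟨f⟩
  let i2 : (pullback p t).Over (Spec (CommRingCat.of K')) := ⟨pullback.snd p t⟩
  have h4 := Groth.Agent.Pi1.H536.GenusFam.finrank_eq_betti p K' t (closedPoint K') (pullback.fst p t) hP 1
  have h5 := Groth.Agent.Pi1.H536.GenusFam.finrank_eq_betti p K (gen R K) (closedPoint K) i hi 1
  have h6 : t (closedPoint K') = gen R K (closedPoint K) := by
    rw [gen_apply]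
    exact gen_apply K _
  rw [h6] at h3 h4
  have h7 : (@Curv2.genus K' _ (pullback p t) ⟨pullback.snd p t⟩ : ℕ) = g := by
    rw [← hg]
    exact h4.trans h5.symm
  rw [h7] at h3
  have hpre : PreconnectedSpace (Spec (CommRingCat.of R)) := inferInstanceAs (PreconnectedSpace (PrimeSpectrum R))
  have h8 := PerfB.Semi.isLocallyConstant_euler p (Coh.structureModule X)
    (PerfB.StructFlat.isFP_structure) (PerfB.StructFlat.isFlatOver_structure p)
  change PerfAux.eulerChar p (Coh.structureModule X) s = 1 - (g : ℤ)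
  rw [← h3]
  exact h8.apply_eq_of_preconnectedSpace _ _

include hi hn in
/-- A regular pointed nodal model is a prestable pointed family. -/
theorem isPrestablePtdFam (hr : ∀ z : X, IsRegularLocalRing (X.presheaf.stalk z)) [GeometricallyIntegral f] (g : ℕ)
    (hg : letI : C.Over (Spec (CommRingCat.of K)) := ⟨f⟩; Curv2.genus K C = g) {n : ℕ}
    (σ : Fin n → (Spec (CommRingCat.of R) ⟶ X)) (hσ : ∀ j, σ j ≫ p = 𝟙 _)
    (hdis : ∀ j k, j ≠ k → σ j (closedPoint R) ≠ σ k (closedPoint R)) :
    IsPrestablePtdFam p σ hσ g := by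
  have hfl := hn.1
  have hfp := hn.2.1
  refine ⟨hfl, inferInstance, hfp, fun Ω _ _ t Y a q hP => ?_⟩
  rw [isPrestablePtd_iff p σ hσ g hP]
  refine ⟨⟨mem_genSet K f p hn i hi g hg _, ?_⟩, fun j => ?_⟩
  · change Function.Injective fun j => σ j (t (closedPoint Ω))
    intro j k hjk
    by_contra hne
    have h2 : closedPoint R ∈ {s : Spec (CommRingCat.of R) | σ j s = σ k s} := by
      have h3 : t (closedPoint Ω) ∈ {s : Spec (CommRingCat.of R) | σ j s = σ k s} := hjk
      exact (specializes_closedPoint (R := R) (t (closedPoint Ω))).mem_closed (isClosed_coincide (hσ j) (hσ k)) h3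
    exact hdis j k hne h2
  · have h1 := Groth.Agent.S11100.result p hr (σ j) (hσ j) (t (closedPoint Ω))
    have h2 := Groth.Agent.Sga7.H591.GeoFib.smoothRel p hn
    exact ⟨p.smoothLocus, h1, SmoothOfRelativeDimension.smooth 1 _⟩

end K742.PreFam
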