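import Groth.Agent.CurvSt.K742.PreFam
import Groth.Agent.CurvSt.K897.GenIso
import Groth.Agent.CurvSt.K900.Desc
import Groth.Agent.PerfC.TildeInjAdapted
/-!
K742.Psr : pointed stable models over a discrete valuation ring of pointed smooth curves with semistable reduction.
-/

set_option autoImplicit false
universe u

open CategoryTheory CategoryTheory.Limits AlgebraicGeometry IsLocalRing CurvSt

namespace K742.Psr

open K742.PtModel K742.PreFam

/-- The statement S17201. -/
def S17201Stmt : Prop := ∀ {C T : Scheme.{u}} (f : C ⟶ T) (n g : ℕ) (σ : Fin n → (T ⟶ C))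
    (hσ : ∀ i, σ i ≫ f = 𝟙 T) (_ : CurvSt.IsPrestablePtdFam f σ hσ g) (_ : 3 ≤ 2 * g + n)
    [HasInjectiveResolutions C.Modules],
    ∃ (C' : Scheme.{u}) (g' : C' ⟶ T) (c : C ⟶ C') (hc : c ≫ g' = f),
      CurvSt.IsStableFam g' (fun i => σ i ≫ c) (fun i => (Category.assoc _ _ _).trans ((congrArg (fun x => σ i ≫ x) hc).trans (hσ i))) g ∧
      IsIso (ClSub.unitToPush c) ∧ IsZero ((Coh.Rpush c 1).obj (Coh.structureModule C)) ∧
      ∀ (T₀ C₀ D₀ : Scheme.{u}) (b : T₀ ⟶ T) (g₀ : D₀ ⟶ T₀) (c₀ : C₀ ⟶ D₀) (pD : D₀ ⟶ C') (pC : C₀ ⟶ C)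
        [HasInjectiveResolutions C₀.Modules],
        IsPullback pD g₀ g' b → IsPullback pC c₀ c pD →
          IsIso (ClSub.unitToPush c₀) ∧ IsZero ((Coh.Rpush c₀ 1).obj (Coh.structureModule C₀))

variable {R : Type u} [CommRing R] [IsDomain R] [IsDiscreteValuationRing R]

/-- Contracting a prestable pointed model gives a stable pointed model. -/
theorem exists_of_prestable (h01 : S17201Stmt.{u}) (K : Type u) [Field K] [Algebra R K] [IsFractionRing R K]
    {C : Scheme.{u}} (f : C ⟶ Spec (CommRingCat.of K)) (hC : Curve.IsSmoothProperCurve K C f) {X : Scheme.{u}}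
    (p : X ⟶ Spec (CommRingCat.of R)) (i : C ⟶ X) (hi : IsPullback i f p (gen R K)) {n g : ℕ}
    (σ : Fin n → (Spec (CommRingCat.of R) ⟶ X)) (hσ : ∀ j, σ j ≫ p = 𝟙 _) (hp : IsPrestablePtdFam p σ hσ g)
    (h : 3 ≤ 2 * g + n) :
    ∃ (X' : Scheme.{u}) (p' : X' ⟶ Spec (CommRingCat.of R)) (c : X ⟶ X') (hc : c ≫ p' = p),
      IsStableFam p' (fun j => σ j ≫ c)
        (fun j => (Category.assoc _ _ _).trans ((congrArg (fun x => σ j ≫ x) hc).trans (hσ j))) g ∧
      IsPullback (i ≫ c) f p' (gen R K) := by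
  have := Groth.Agent.PerfC.TildeInjAdapted.hasInjectiveResolutions X
  obtain ⟨X', p', c, hc, h1, h2, h3, h4⟩ := h01 p n g σ hσ hp h
  refine ⟨X', p', c, hc, h1, ?_⟩
  have hP := IsPullback.of_hasPullback p' (gen R K)
  have hw : (i ≫ c) ≫ p' = f ≫ gen R K := by rw [Category.assoc, hc, hi.w]
  let cK : C ⟶ pullback p' (gen R K) := pullback.lift (i ≫ c) f hw
  have hcK1 : cK ≫ pullback.fst p' (gen R K) = i ≫ c := pullback.lift_fst _ _ _
  have hcK2 : cK ≫ pullback.snd p' (gen R K) = f := pullback.lift_snd _ _ _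
  have hX : IsPullback i cK c (pullback.fst p' (gen R K)) := by
    refine IsPullback.of_bot ?_ hcK1.symm hP
    rw [hcK2, hc]
    exact hi
  have := Groth.Agent.PerfC.TildeInjAdapted.hasInjectiveResolutions C
  obtain ⟨h5, -⟩ := h4 _ C (pullback p' (gen R K)) (gen R K) (pullback.snd p' (gen R K)) cK
    (pullback.fst p' (gen R K)) i hP hX
  have hO : ∀ W : (pullback p' (gen R K)).Opens, IsIso (cK.app W) := fun W =>
    K900.Desc.isIso_app_of_unit cK h5 W
  have hpp : IsProper p := hp.2.1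
  have hpp' : IsProper p' := h1.2.1
  have hcp : IsProper c := by
    have : IsProper (c ≫ p') := by rw [hc]; exact hpp
    exact MorphismProperty.of_postcomp (W := @IsProper) (W' := @IsSeparated) c p' inferInstance this
  have hgeo := K898.StabFam.geoGenus_of_isStableFam h1
  have hdY : topologicalKrullDim (pullback p' (gen R K) : Scheme.{u}) = 1 := by
    rw [Groth.Agent.Flat2G.ProperDim.topologicalKrullDim_field_point p' (Field.toIsField K) _ _ _ hP
      (IsLocalRing.closedPoint K)]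
    exact K898.StabFam.dim_fiber p' hgeo _
  obtain ⟨hCp, hCs, hCi, hCd⟩ := hC
  have hpcK : IsProper cK := MorphismProperty.of_isPullback (P := @IsProper) hX inferInstance
  have hNC : IsNoetherian C := by
    let _ : C.Over (Spec (CommRingCat.of K)) := ⟨f⟩
    have : IsProper (C ↘ Spec (CommRingCat.of K)) := hCp
    exact Groth.Agent.VarietyB.DegFin.isNoetherian_of_isProper K C
  have hiso : IsIso cK := K897.GenIso.isIso_of_dim cK hCd.le hO hdY
  exact IsPullback.of_iso hP (asIso cK).symm (Iso.refl _) (Iso.refl _) (Iso.refl _)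
    (by simp [← hcK1]) (by simp [← hcK2]) (by simp) (by simp)

/-- Pointed stable models of pointed smooth curves with semistable reduction. -/
theorem exists_stable (h26 : S2226Stmt.{u}) (h01 : S17201Stmt.{u}) {C : Scheme.{u}}
    (f : C ⟶ Spec (CommRingCat.of (FractionRing R))) (hC : Curve.IsSmoothProperCurve (FractionRing R) C f)
    (h0 : IsIso f.appTop) (hss : Models.HasSemistableReduction R C f) {n g : ℕ}
    (hg : letI : C.Over (Spec (CommRingCat.of (FractionRing R))) := ⟨f⟩; Curv2.genus (FractionRing R) C = g)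
    (x : Fin n → (Spec (CommRingCat.of (FractionRing R)) ⟶ C)) (hx : ∀ j, x j ≫ f = 𝟙 _)
    (hinj : Function.Injective x) (h : 3 ≤ 2 * g + n) :
    ∃ (X : Scheme.{u}) (p : X ⟶ Spec (CommRingCat.of R)) (σ : Fin n → (Spec (CommRingCat.of R) ⟶ X))
      (hσ : ∀ j, σ j ≫ p = 𝟙 _) (i : C ⟶ X), IsStableFam p σ hσ g ∧
      IsPullback i f p (gen R (FractionRing R)) ∧ ∀ j, x j ≫ i = gen R (FractionRing R) ≫ σ j := by
  obtain ⟨X, p, σ, i, h1, h2, h3, h4, h5, h6, h7⟩ := exists_regular h26 f hC h0 hss x hx hinj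
  have hgi := geometricallyIntegral f hC h0
  have h8 := isPrestablePtdFam (FractionRing R) f p h2 i h4 h3 g hg σ h5 h7
  obtain ⟨X', p', c, hc, h9, h10⟩ := exists_of_prestable h01 (FractionRing R) f hC p i h4 σ h5 h8 h
  refine ⟨X', p', _, _, i ≫ c, h9, h10, fun j => ?_⟩
  rw [← Category.assoc, h6, Category.assoc]

end K742.Psr
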