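import Groth.Agent.SemiFact.K793.NodeBlow
/-!
K742.BlowLine : the blow-up of the affine line `Spec D[z]` over a discrete valuation ring at the origin `(z, t)` of the
special fibre is covered by `Spec D[z']`, `z = t z'`, and `Spec D[u, v]/(uv - t)`, `z = u`.
-/

set_option autoImplicit false
universe u

open BlowUp CategoryTheory AlgebraicGeometry

namespace K742.BlowLine

open Groth.Agent.Models.NodeRing Groth.Agent.Divis.BlowChart Groth.Agent.Divis.IdealComap Polynomial

section Algebra

variable {D : Type u} [CommRing D] [IsDomain D] (t : D)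

/-- The ring map `z ↦ t z`. -/
noncomputable def sub : D[X] →+* D[X] := eval₂RingHom C (C t * X)

@[simp] theorem sub_C (d : D) : sub t (C d) = C d := by simp [sub]
@[simp] theorem sub_X : sub t X = C t * X := by simp [sub]

/-- The ring map `z ↦ u`. -/
noncomputable def toW : D[X] →+* W D t := eval₂RingHom (algebraMap D (W D t)) (uu D t)

@[simp] theorem toW_C (d : D) : toW t (C d) = algebraMap D (W D t) d := by simp [toW]
@[simp] theorem toW_X : toW t X = uu D t := by simp [toW]

/-- The chart of the blow-up where `t` generates. -/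
theorem exists_equiv_t (ht : t ≠ 0) (I : Ideal D[X]) (hI : I = Ideal.span {X, C t}) :
    ∃ e : affineAlgebra D[X] I (C t) ≃+* D[X],
      (e : affineAlgebra D[X] I (C t) →+* D[X]).comp (algebraMap _ _) = sub t := by
  have hXI : (X : D[X]) ∈ I := by rw [hI]; exact Ideal.subset_span (by simp)
  have htI : (C t : D[X]) ∈ I := by rw [hI]; exact Ideal.subset_span (by simp)
  have hreg : sub t (C t) ∈ nonZeroDivisors D[X] := by
    rw [sub_C]
    exact mem_nonZeroDivisors_of_ne_zero (by simpa using ht)
  have hdiv : ∀ z ∈ I, ∃ s, sub t z = sub t (C t) * s := by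
    have hle : I ≤ (Ideal.span {sub t (C t)}).comap (sub t) := by
      rw [hI, Ideal.span_le]
      rintro z (rfl | rfl)
      · rw [SetLike.mem_coe, Ideal.mem_comap, Ideal.mem_span_singleton, sub_X, sub_C]
        exact dvd_mul_right _ _
      · exact Ideal.mem_span_singleton_self _
    intro z hz
    exact Ideal.mem_span_singleton.1 (hle hz)
  obtain ⟨θ, hθ⟩ := Groth.Agent.Divis.BlowAlg.exists_hom I (C t) (sub t) hreg hdiv
  have hθ' : ∀ z, θ (algebraMap D[X] _ z) = sub t z := fun z => congr($hθ z)
  have hregA := Groth.Agent.Divis.BlowAlg.algebraMap_mem_nonZeroDivisors I (C t)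
  obtain ⟨r, hr⟩ : ∃ r : affineAlgebra D[X] I (C t), algebraMap D[X] _ X = algebraMap D[X] _ (C t) * r := by
    have := Ideal.mem_map_of_mem (algebraMap D[X] (affineAlgebra D[X] I (C t))) hXI
    rw [Groth.Agent.Divis.BlowAlg.map_eq_span I (C t) htI] at this
    exact Ideal.mem_span_singleton.1 this
  let η : D[X] →+* affineAlgebra D[X] I (C t) := eval₂RingHom ((algebraMap D[X] _).comp C) r
  have hηC : ∀ d, η (C d) = algebraMap D[X] _ (C d) := by intro d; simp [η]
  have hηX : η X = r := by simp [η]
  have h1 : θ.comp η = RingHom.id _ := by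
    apply Polynomial.ringHom_ext
    · intro d
      rw [RingHom.comp_apply, hηC, hθ', sub_C, RingHom.id_apply]
    · rw [RingHom.comp_apply, hηX, RingHom.id_apply]
      have h2 := congrArg θ hr
      rw [map_mul, hθ', hθ', sub_X, sub_C] at h2
      exact (mul_left_cancel₀ (by simpa using ht) h2).symm
  have h2 : η.comp θ = RingHom.id _ := by
    apply Groth.Agent.Divis.BlowAlg.hom_ext I (C t)
    · apply Polynomial.ringHom_ext
      · intro d
        simp only [RingHom.comp_apply, RingHom.id_apply]
        rw [hθ', sub_C, hηC]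
      · simp only [RingHom.comp_apply, RingHom.id_apply]
        rw [hθ', sub_X, map_mul, hηC, hηX, hr]
    · change η (θ (algebraMap D[X] _ (C t))) ∈ _
      rw [hθ', sub_C, hηC]
      exact hregA
  exact ⟨RingEquiv.ofRingHom θ η h1 h2, hθ⟩

/-- The chart of the blow-up where `z` generates. -/
theorem exists_equiv_X [IsDiscreteValuationRing D] (ht : Irreducible t) (I : Ideal D[X])
    (hI : I = Ideal.span {X, C t}) :
    ∃ e : affineAlgebra D[X] I X ≃+* W D t,
      (e : affineAlgebra D[X] I X →+* W D t).comp (algebraMap _ _) = toW t := by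
  have hD : IsDomain (W D t) := isDomain D _ ht.ne_zero
  have hXI : (X : D[X]) ∈ I := by rw [hI]; exact Ideal.subset_span (by simp)
  have htI : (C t : D[X]) ∈ I := by rw [hI]; exact Ideal.subset_span (by simp)
  have huv := uu_mul_vv D t
  have hu0 : uu D t ≠ 0 := uu_ne_zero ht.ne_zero
  have hreg : toW t X ∈ nonZeroDivisors (W D t) := by
    rw [toW_X]
    exact mem_nonZeroDivisors_of_ne_zero hu0
  have hdiv : ∀ z ∈ I, ∃ s, toW t z = toW t X * s := by
    have hle : I ≤ (Ideal.span {toW t X}).comap (toW t) := by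
      rw [hI, Ideal.span_le]
      rintro z (rfl | rfl)
      · exact Ideal.mem_span_singleton_self _
      · rw [SetLike.mem_coe, Ideal.mem_comap, Ideal.mem_span_singleton, toW_X, toW_C]
        exact ⟨vv D t, huv.symm⟩
    intro z hz
    exact Ideal.mem_span_singleton.1 (hle hz)
  obtain ⟨θ, hθ⟩ := Groth.Agent.Divis.BlowAlg.exists_hom I X (toW t) hreg hdiv
  have hθ' : ∀ z, θ (algebraMap D[X] _ z) = toW t z := fun z => congr($hθ z)
  have hregA := Groth.Agent.Divis.BlowAlg.algebraMap_mem_nonZeroDivisors I (X : D[X])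
  obtain ⟨s, hs⟩ : ∃ s : affineAlgebra D[X] I X, algebraMap D[X] _ (C t) = algebraMap D[X] _ X * s := by
    have := Ideal.mem_map_of_mem (algebraMap D[X] (affineAlgebra D[X] I X)) htI
    rw [Groth.Agent.Divis.BlowAlg.map_eq_span I X hXI] at this
    exact Ideal.mem_span_singleton.1 this
  let η : W D t →+* affineAlgebra D[X] I X :=
    Groth.Agent.Models.NodeRing.lift ((algebraMap D[X] _).comp C) (algebraMap _ _ X) s hs.symm
  have hηD : ∀ d, η (algebraMap D _ d) = algebraMap D[X] _ (C d) := by intro d; simp [η]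
  have hηu : η (uu D t) = algebraMap D[X] _ X := by simp [η]
  have hηv : η (vv D t) = s := by simp [η]
  have h1 : θ.comp η = RingHom.id _ := by
    apply hom_ext
    · intro d
      rw [RingHom.comp_apply, hηD, hθ', toW_C, RingHom.id_apply]
    · rw [RingHom.comp_apply, hηu, hθ', toW_X, RingHom.id_apply]
    · rw [RingHom.comp_apply, hηv, RingHom.id_apply]
      have h2 : θ (algebraMap D[X] _ (C t)) = θ (algebraMap D[X] _ X * s) := congrArg θ hs
      rw [map_mul, hθ', hθ', toW_C, toW_X, ← huv] at h2
      exact (mul_left_cancel₀ hu0 h2).symm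
  have h2 : η.comp θ = RingHom.id _ := by
    apply Groth.Agent.Divis.BlowAlg.hom_ext I X
    · apply Polynomial.ringHom_ext
      · intro d
        simp only [RingHom.comp_apply, RingHom.id_apply]
        rw [hθ', toW_C, hηD]
      · simp only [RingHom.comp_apply, RingHom.id_apply]
        rw [hθ', toW_X, hηu]
    · change η (θ (algebraMap D[X] _ X)) ∈ _
      rw [hθ', toW_X, hηu]
      exact hregA
  exact ⟨RingEquiv.ofRingHom θ η h1 h2, hθ⟩

end Algebra

section Geometry

variable {D : Type u} [CommRing D] [IsDomain D] (t : D) {X' : Scheme.{u}} (b : X' ⟶ Spec (CommRingCat.of D[X]))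

/-- A chart of a blow-up given by a ring isomorphism. -/
theorem chart_of_equiv {A B : Type u} [CommRing A] [CommRing B] (I : Ideal A) {X' : Scheme.{u}}
    (b : X' ⟶ Spec (CommRingCat.of A)) (hb : IsBlowUp b (idl I)) {z : A} (hz : z ∈ I) (ψ : A →+* B)
    (e : affineAlgebra A I z ≃+* B) (he : (e : affineAlgebra A I z →+* B).comp (algebraMap _ _) = ψ) :
    ∃ e' : (chartLocus I b z).toScheme ≅ Spec (CommRingCat.of B),
      e'.hom ≫ Spec.map (CommRingCat.ofHom ψ) = (chartLocus I b z).ι ≫ b := by
  obtain ⟨e', he'⟩ := exists_iso I b hb hz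
  refine ⟨e' ≪≫ (Scheme.Spec.mapIso e.toCommRingCatIso.symm.op), ?_⟩
  rw [← he']
  simp only [Iso.trans_hom, Category.assoc]
  congr 1
  have h1 : (Scheme.Spec.mapIso e.toCommRingCatIso.symm.op).hom =
      Spec.map (CommRingCat.ofHom (e.symm : B →+* _)) := rfl
  rw [h1, ← Spec.map_comp]
  have h2 : chartMap I z = Spec.map (CommRingCat.ofHom (algebraMap A (affineAlgebra A I z))) := rfl
  rw [h2]
  congr 1
  rw [← CommRingCat.ofHom_comp, ← he]
  congr 1
  ext d
  simp

/-- The chart where `t` generates. -/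
theorem exists_chart_t (ht : t ≠ 0) (hb : IsBlowUp b (idl (Ideal.span {X, C t}))) :
    ∃ e : (chartLocus (Ideal.span {X, C t}) b (C t)).toScheme ≅ Spec (CommRingCat.of D[X]),
      e.hom ≫ Spec.map (CommRingCat.ofHom (sub t)) = (chartLocus (Ideal.span {X, C t}) b (C t)).ι ≫ b := by
  obtain ⟨e, he⟩ := exists_equiv_t t ht _ rfl
  exact chart_of_equiv _ b hb (Ideal.subset_span (by simp)) _ e he

/-- The chart where `z` generates. -/
theorem exists_chart_X [IsDiscreteValuationRing D] (ht : Irreducible t) (hb : IsBlowUp b (idl (Ideal.span {X, C t}))) :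
    ∃ e : (chartLocus (Ideal.span {X, C t}) b X).toScheme ≅ Spec (CommRingCat.of (W D t)),
      e.hom ≫ Spec.map (CommRingCat.ofHom (toW t)) = (chartLocus (Ideal.span {X, C t}) b X).ι ≫ b := by
  obtain ⟨e, he⟩ := exists_equiv_X t ht _ rfl
  exact chart_of_equiv _ b hb (Ideal.subset_span (by simp)) _ e he

/-- The two charts cover. -/
theorem mem_or (hb : IsBlowUp b (idl (Ideal.span {X, C t}))) (x : X') :
    x ∈ chartLocus (Ideal.span {X, C t}) b X ∨ x ∈ chartLocus (Ideal.span {X, C t}) b (C t) := by
  obtain ⟨z, hz, hx⟩ := Groth.Agent.Models.NodeBlow.exists_mem_chartLocus_of_span _ b _ rfl hb.1 x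
  rcases hz with rfl | hz
  · exact Or.inl hx
  · obtain rfl : z = C t := hz
    exact Or.inr hx

end Geometry

end K742.BlowLine
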