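import Mathlib.AlgebraicGeometry.Morphisms.Separated
import Mathlib.AlgebraicGeometry.Properties
import Mathlib.AlgebraicGeometry.Noetherian
import Mathlib.RingTheory.Filtration
import Mathlib.RingTheory.DiscreteValuationRing.Basic
/-!
K742.Sect : two morphisms `Spec R ⟶ X` agreeing modulo an ideal of `R`; the order of contact of two sections over a
discrete valuation ring.
-/

set_option autoImplicit false
universe u

open CategoryTheory CategoryTheory.Limits AlgebraicGeometry IsLocalRing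

namespace K742.Sect

variable {R : Type u} [CommRing R]

/-- Two points `Spec R ⟶ X` agree modulo the ideal `I`. -/
def Agree (I : Ideal R) {X : Scheme.{u}} (a b : Spec (CommRingCat.of R) ⟶ X) : Prop :=
  Spec.map (CommRingCat.ofHom (Ideal.Quotient.mk I)) ≫ a = Spec.map (CommRingCat.ofHom (Ideal.Quotient.mk I)) ≫ b

theorem Agree.refl (I : Ideal R) {X : Scheme.{u}} (a : Spec (CommRingCat.of R) ⟶ X) : Agree I a a := rfl

theorem Agree.symm {I : Ideal R} {X : Scheme.{u}} {a b : Spec (CommRingCat.of R) ⟶ X} (h : Agree I a b) :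
    Agree I b a := Eq.symm h

theorem Agree.comp {I : Ideal R} {X Y : Scheme.{u}} {a b : Spec (CommRingCat.of R) ⟶ X} (h : Agree I a b)
    (f : X ⟶ Y) : Agree I (a ≫ f) (b ≫ f) := by
  unfold Agree at *
  rw [reassoc_of% h]

theorem Agree.of_comp {I : Ideal R} {X Y : Scheme.{u}} {a b : Spec (CommRingCat.of R) ⟶ X} (f : X ⟶ Y) [Mono f]
    (h : Agree I (a ≫ f) (b ≫ f)) : Agree I a b := by
  unfold Agree at *
  rw [← cancel_mono f, Category.assoc, Category.assoc, h]

theorem Agree.mono {I J : Ideal R} (hIJ : I ≤ J) {X : Scheme.{u}} {a b : Spec (CommRingCat.of R) ⟶ X}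
    (h : Agree I a b) : Agree J a b := by
  unfold Agree at *
  have h1 : Spec.map (CommRingCat.ofHom (Ideal.Quotient.mk J)) =
      Spec.map (CommRingCat.ofHom (Ideal.Quotient.factor hIJ)) ≫
        Spec.map (CommRingCat.ofHom (Ideal.Quotient.mk I)) := by
    rw [← Spec.map_comp, ← CommRingCat.ofHom_comp]
    rfl
  rw [h1, Category.assoc, Category.assoc, h]

theorem Agree.top {X : Scheme.{u}} (a b : Spec (CommRingCat.of R) ⟶ X) : Agree (⊤ : Ideal R) a b := by
  unfold Agree
  have : IsEmpty (Spec (CommRingCat.of (R ⧸ (⊤ : Ideal R)))) := by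
    have : Subsingleton (R ⧸ (⊤ : Ideal R)) := Ideal.Quotient.subsingleton_iff.2 rfl
    exact inferInstanceAs (IsEmpty (PrimeSpectrum (R ⧸ (⊤ : Ideal R))))
  exact isInitialOfIsEmpty.hom_ext _ _

theorem agree_spec {B : Type u} [CommRing B] (I : Ideal R) (α β : B →+* R) :
    Agree I (Spec.map (CommRingCat.ofHom α)) (Spec.map (CommRingCat.ofHom β)) ↔ ∀ b, α b - β b ∈ I := by
  unfold Agree
  rw [← Spec.map_comp, ← Spec.map_comp, ← CommRingCat.ofHom_comp, ← CommRingCat.ofHom_comp]
  constructor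
  · intro h b
    have h1 := Spec.map_injective h
    have h2 := congrArg CommRingCat.Hom.hom h1
    have h3 : Ideal.Quotient.mk I (α b) = Ideal.Quotient.mk I (β b) := RingHom.congr_fun h2 b
    exact Ideal.Quotient.eq.1 h3
  · intro h
    congr 2
    ext b
    exact Ideal.Quotient.eq.2 (h b)

section Local

variable [IsLocalRing R]

theorem range_subset {X : Scheme.{u}} (a : Spec (CommRingCat.of R) ⟶ X) (U : X.Opens) (h : a (closedPoint R) ∈ U) :
    Set.range a ⊆ U := by
  rintro _ ⟨z, rfl⟩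
  exact (specializes_closedPoint z).map a.continuous |>.mem_open U.isOpen h

theorem exists_lift {U X : Scheme.{u}} (e : U ⟶ X) [IsOpenImmersion e] (a : Spec (CommRingCat.of R) ⟶ X)
    (h : a (closedPoint R) ∈ Set.range e) : ∃ a' : Spec (CommRingCat.of R) ⟶ U, a' ≫ e = a :=
  ⟨IsOpenImmersion.lift e a (range_subset a e.opensRange h), IsOpenImmersion.lift_fac _ _ _⟩

theorem exists_affine {X : Scheme.{u}} (a : Spec (CommRingCat.of R) ⟶ X) :
    ∃ (B : Type u) (_ : CommRing B) (e : Spec (CommRingCat.of B) ⟶ X), IsOpenImmersion e ∧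
      a (closedPoint R) ∈ Set.range e := by
  obtain ⟨W, hW, hx, -⟩ := exists_isAffineOpen_mem_and_subset (X := X) (x := a (closedPoint R)) (U := ⊤) trivial
  exact ⟨Γ(X, W), inferInstance, hW.fromSpec, inferInstance, by rw [hW.range_fromSpec]; exact hx⟩

theorem spec_closedPoint {B : Type u} [CommRing B] (α : B →+* R) (b : B) :
    b ∈ (Spec.map (CommRingCat.ofHom α) (closedPoint R)).asIdeal ↔ α b ∈ maximalIdeal R := Iff.rfl

/-- Two sections of a scheme over a local ring through the same closed point agree modulo the maximal ideal. -/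
theorem agree_maximalIdeal {X : Scheme.{u}} (f : X ⟶ Spec (CommRingCat.of R)) (a b : Spec (CommRingCat.of R) ⟶ X)
    (ha : a ≫ f = 𝟙 _) (hb : b ≫ f = 𝟙 _) (hab : a (closedPoint R) = b (closedPoint R)) :
    Agree (maximalIdeal R) a b := by
  obtain ⟨B, _, e, he, hx⟩ := exists_affine a
  obtain ⟨a', rfl⟩ := exists_lift e a hx
  obtain ⟨b', rfl⟩ := exists_lift e b (by rw [← hab]; exact hx)
  obtain ⟨α, rfl⟩ : ∃ α : B →+* R, a' = Spec.map (CommRingCat.ofHom α) :=
    ⟨(Spec.preimage a').hom, (Spec.map_preimage a').symm⟩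
  obtain ⟨β, rfl⟩ : ∃ β : B →+* R, b' = Spec.map (CommRingCat.ofHom β) :=
    ⟨(Spec.preimage b').hom, (Spec.map_preimage b').symm⟩
  obtain ⟨γ, hγ⟩ : ∃ γ : R →+* B, e ≫ f = Spec.map (CommRingCat.ofHom γ) :=
    ⟨(Spec.preimage (e ≫ f)).hom, (Spec.map_preimage (e ≫ f)).symm⟩
  rw [Category.assoc, hγ, ← Spec.map_comp, ← CommRingCat.ofHom_comp] at ha hb
  have ha' : α.comp γ = RingHom.id R := by
    have : Spec.map (CommRingCat.ofHom (α.comp γ)) = Spec.map (CommRingCat.ofHom (RingHom.id R)) := by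
      rw [ha]; exact (Spec.map_id _).symm
    exact congrArg CommRingCat.Hom.hom (Spec.map_injective this)
  have hb' : β.comp γ = RingHom.id R := by
    have : Spec.map (CommRingCat.ofHom (β.comp γ)) = Spec.map (CommRingCat.ofHom (RingHom.id R)) := by
      rw [hb]; exact (Spec.map_id _).symm
    exact congrArg CommRingCat.Hom.hom (Spec.map_injective this)
  refine Agree.comp ((agree_spec _ _ _).2 fun x => ?_) e
  have hab' : Spec.map (CommRingCat.ofHom α) (closedPoint R) = Spec.map (CommRingCat.ofHom β) (closedPoint R) :=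
    e.isOpenEmbedding.injective hab
  have h1 : x - γ (α x) ∈ (Spec.map (CommRingCat.ofHom α) (closedPoint R)).asIdeal := by
    rw [spec_closedPoint, map_sub]
    have : α (γ (α x)) = α x := RingHom.congr_fun ha' (α x)
    rw [this, sub_self]
    exact zero_mem _
  rw [hab', spec_closedPoint, map_sub] at h1
  have h2 : β (γ (α x)) = α x := RingHom.congr_fun hb' (α x)
  rw [h2] at h1
  rw [← neg_sub]
  exact neg_mem h1

theorem closedPoint_eq_of_agree {X : Scheme.{u}} {I : Ideal R} (hI : I ≤ maximalIdeal R)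
    {a b : Spec (CommRingCat.of R) ⟶ X} (h : Agree I a b) : a (closedPoint R) = b (closedPoint R) := by
  have h1 : Agree (maximalIdeal R) a b := h.mono hI
  unfold Agree at h1
  let z : Spec (CommRingCat.of (R ⧸ maximalIdeal R)) := (⊥ : PrimeSpectrum (R ⧸ maximalIdeal R))
  have h2 : Spec.map (CommRingCat.ofHom (Ideal.Quotient.mk (maximalIdeal R))) z = closedPoint R := by
    apply PrimeSpectrum.ext
    change Ideal.comap (Ideal.Quotient.mk (maximalIdeal R)) ⊥ = maximalIdeal R
    rw [← RingHom.ker_eq_comap_bot, Ideal.mk_ker]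
  have h3 : (Spec.map (CommRingCat.ofHom (Ideal.Quotient.mk (maximalIdeal R))) ≫ a) z =
      (Spec.map (CommRingCat.ofHom (Ideal.Quotient.mk (maximalIdeal R))) ≫ b) z := by rw [h1]
  rw [← h2]
  exact h3

/-- Krull's intersection theorem for points. -/
theorem eq_of_agree [IsNoetherianRing R] {X : Scheme.{u}} {a b : Spec (CommRingCat.of R) ⟶ X}
    (h : ∀ m : ℕ, Agree (maximalIdeal R ^ m) a b) : a = b := by
  have hab := closedPoint_eq_of_agree (le_of_eq (pow_one _)) (h 1)
  obtain ⟨B, _, e, he, hx⟩ := exists_affine a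
  obtain ⟨a', rfl⟩ := exists_lift e a hx
  obtain ⟨b', rfl⟩ := exists_lift e b (by rw [← hab]; exact hx)
  obtain ⟨α, rfl⟩ : ∃ α : B →+* R, a' = Spec.map (CommRingCat.ofHom α) :=
    ⟨(Spec.preimage a').hom, (Spec.map_preimage a').symm⟩
  obtain ⟨β, rfl⟩ : ∃ β : B →+* R, b' = Spec.map (CommRingCat.ofHom β) :=
    ⟨(Spec.preimage b').hom, (Spec.map_preimage b').symm⟩
  have : α = β := by
    ext x
    have h1 : ∀ m, α x - β x ∈ maximalIdeal R ^ m := fun m =>
      (agree_spec _ _ _).1 (Agree.of_comp e (h m)) x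
    have h2 : α x - β x ∈ ⨅ m : ℕ, maximalIdeal R ^ m := by
      rw [Ideal.mem_iInf]
      exact h1
    rw [Ideal.iInf_pow_eq_bot_of_isLocalRing _ (maximalIdeal.isMaximal R).ne_top] at h2
    exact sub_eq_zero.1 h2
  rw [this]

/-- The order of contact of two points (`0` if they are equal). -/
noncomputable def ord {X : Scheme.{u}} (a b : Spec (CommRingCat.of R) ⟶ X) : ℕ :=
  sInf {m | ¬ Agree (maximalIdeal R ^ m) a b}

theorem not_agree_ord [IsNoetherianRing R] {X : Scheme.{u}} {a b : Spec (CommRingCat.of R) ⟶ X} (h : a ≠ b) :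
    ¬ Agree (maximalIdeal R ^ ord a b) a b := by
  have h1 : {m | ¬ Agree (maximalIdeal R ^ m) a b}.Nonempty := by
    by_contra hc
    rw [Set.not_nonempty_iff_eq_empty] at hc
    refine h (eq_of_agree fun m => ?_)
    by_contra hm
    have : m ∈ {m | ¬ Agree (maximalIdeal R ^ m) a b} := hm
    rw [hc] at this
    exact this
  exact Nat.sInf_mem h1

theorem ord_le {X : Scheme.{u}} {a b : Spec (CommRingCat.of R) ⟶ X} {m : ℕ}
    (h : ¬ Agree (maximalIdeal R ^ m) a b) : ord a b ≤ m := Nat.sInf_le h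

theorem ord_pos [IsNoetherianRing R] {X : Scheme.{u}} {a b : Spec (CommRingCat.of R) ⟶ X} (h : a ≠ b) :
    0 < ord a b := by
  rw [Nat.pos_iff_ne_zero]
  intro h0
  apply not_agree_ord h
  rw [h0, pow_zero, Ideal.one_eq_top]
  exact Agree.top _ _

/-- The order of contact does not increase under lifting. -/
theorem ord_le_ord [IsNoetherianRing R] {X Y : Scheme.{u}} {a b : Spec (CommRingCat.of R) ⟶ X} (f : X ⟶ Y)
    (h : a ≫ f ≠ b ≫ f) : ord a b ≤ ord (a ≫ f) (b ≫ f) :=
  ord_le fun h1 => not_agree_ord h (h1.comp f)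

theorem ord_lt_ord [IsNoetherianRing R] {X Y : Scheme.{u}} {a b : Spec (CommRingCat.of R) ⟶ X} (f : X ⟶ Y)
    (h : a ≫ f ≠ b ≫ f)
    (hs : ∀ m, Agree (maximalIdeal R ^ m) a b → Agree (maximalIdeal R ^ (m + 1)) (a ≫ f) (b ≫ f)) :
    ord a b < ord (a ≫ f) (b ≫ f) := by
  have h1 := ord_pos h
  have h2 : ¬ Agree (maximalIdeal R ^ (ord (a ≫ f) (b ≫ f) - 1)) a b := by
    intro h3
    apply not_agree_ord h
    have := hs _ h3
    rwa [Nat.sub_add_cancel h1] at this
  have := ord_le h2
  omega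

end Local

end K742.Sect
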