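import Groth.Agent.CurvSt.K742.BlowLine
import Groth.Agent.CurvSt.K742.Sect
import Groth.Agent.SemiFact.K793.BlowNodal
import Groth.Agent.Sga4h.GeoLocal
import Groth.Agent.CurvesB.NodalExist460
/-!
K742.BlowPt : the blow-up of a proper nodal family of curves over a discrete valuation ring at a rational closed point of
the closed fibre at which the family is smooth.
-/

set_option autoImplicit false
universe u

open CategoryTheory CategoryTheory.Limits AlgebraicGeometry IsLocalRing Polynomial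
open Groth.Agent.Models Groth.Agent.Divis.BlowChart

namespace K742.BlowPt

variable {R : Type u} [CommRing R] [IsDomain R] [IsDiscreteValuationRing R]

/-- An étale coordinate at the point `x`, which is the only point of the chart over the origin of the closed fibre. -/
structure Coord (ϖ : R) {X : Scheme.{u}} (p : X ⟶ Spec (CommRingCat.of R)) (x : X) where
  B : Type u
  [cr : CommRing B]
  e : Spec (CommRingCat.of B) ⟶ X
  [oe : IsOpenImmersion e]
  φ : R[X] →+* B
  et : φ.Etale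
  w : Spec.map (CommRingCat.ofHom (φ.comp C)) = e ≫ p
  y : Spec (CommRingCat.of B)
  hy : e y = x
  pt : ∀ z : Spec (CommRingCat.of B), φ Polynomial.X ∈ z.asIdeal → φ (C ϖ) ∈ z.asIdeal → z = y
  hX : φ Polynomial.X ∈ y.asIdeal
  hϖ : φ (C ϖ) ∈ y.asIdeal

attribute [instance] Coord.cr Coord.oe

theorem eq_closedPoint {ϖ : R} (hϖ : Irreducible ϖ) (s : Spec (CommRingCat.of R)) (h : ϖ ∈ s.asIdeal) :
    s = closedPoint R := by
  apply PrimeSpectrum.ext
  change s.asIdeal = maximalIdeal R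
  symm
  refine (IsLocalRing.maximalIdeal.isMaximal R).eq_of_le s.isPrime.ne_top ?_
  rw [hϖ.maximalIdeal_eq, Ideal.span_singleton_le_iff_mem]
  exact h

/-- A coordinate from a section. -/
theorem Coord.of_section {ϖ : R} (hϖ : Irreducible ϖ) {X : Scheme.{u}} {p : X ⟶ Spec (CommRingCat.of R)}
    {B : Type u} [CommRing B] (e : Spec (CommRingCat.of B) ⟶ X) [IsOpenImmersion e] (φ : R[X] →+* B) (hφ : φ.Etale)
    (hw : Spec.map (CommRingCat.ofHom (φ.comp C)) = e ≫ p) (α : B →+* R) (hαφ : α.comp (φ.comp C) = RingHom.id R)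
    (hα0 : ∀ b, α b = 0 ↔ b ∈ Ideal.span {φ Polynomial.X}) {x : X}
    (hx : (Spec.map (CommRingCat.ofHom α) ≫ e) (closedPoint R) = x) : Nonempty (Coord ϖ p x) := by
  refine ⟨{ B := B, e := e, φ := φ, et := hφ, w := hw,
            y := Spec.map (CommRingCat.ofHom α) (closedPoint R), hy := ?_, pt := ?_, hX := ?_, hϖ := ?_ }⟩
  · exact hx
  · intro z hz1 hz2
    apply PrimeSpectrum.ext
    symm
    have hmax : (Ideal.comap α (maximalIdeal R)).IsMaximal := by
      apply Ideal.comap_isMaximal_of_surjective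
      intro r
      exact ⟨φ (C r), RingHom.congr_fun hαφ r⟩
    refine hmax.eq_of_le z.isPrime.ne_top fun b hb => ?_
    rw [Ideal.mem_comap, hϖ.maximalIdeal_eq, Ideal.mem_span_singleton] at hb
    obtain ⟨r, hr⟩ := hb
    have h3 : b - φ (C ϖ) * φ (C r) ∈ Ideal.span {φ Polynomial.X} := by
      rw [← hα0, map_sub, map_mul, hr]
      have e1 : α (φ (C ϖ)) = ϖ := RingHom.congr_fun hαφ ϖ
      have e2 : α (φ (C r)) = r := RingHom.congr_fun hαφ r
      rw [e1, e2, sub_self]
    have h4 : Ideal.span {φ Polynomial.X} ≤ z.asIdeal := by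
      rw [Ideal.span_singleton_le_iff_mem]
      exact hz1
    have h5 : b = (b - φ (C ϖ) * φ (C r)) + φ (C ϖ) * φ (C r) := by ring
    rw [h5]
    exact z.asIdeal.add_mem (h4 h3) (z.asIdeal.mul_mem_right (φ (C r)) hz2)
  · rw [Sect.spec_closedPoint, (hα0 _).2 (Ideal.mem_span_singleton_self _)]
    exact zero_mem _
  · rw [Sect.spec_closedPoint]
    have e1 : α (φ (C ϖ)) = ϖ := RingHom.congr_fun hαφ ϖ
    rw [e1, hϖ.maximalIdeal_eq]
    exact Ideal.mem_span_singleton_self ϖ

theorem exists_coord {ϖ : R} (hϖ : Irreducible ϖ) {X : Scheme.{u}} (p : X ⟶ Spec (CommRingCat.of R)) [IsSeparated p]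
    (U₁ : X.Opens) [SmoothOfRelativeDimension 1 (U₁.ι ≫ p)] (σ : Spec (CommRingCat.of R) ⟶ X) (hσ : σ ≫ p = 𝟙 _)
    (hx : σ (closedPoint R) ∈ U₁) : Nonempty (Coord ϖ p (σ (closedPoint R))) := by
  obtain ⟨i, hi⟩ := Sect.exists_lift U₁.ι σ (by rw [Scheme.Opens.range_ι]; exact hx)
  have hip : i ≫ (U₁.ι ≫ p) = 𝟙 _ := by rw [← Category.assoc, hi, hσ]
  have h1 : IsClosedImmersion i := by
    have : IsClosedImmersion (i ≫ (U₁.ι ≫ p)) := by rw [hip]; infer_instance
    exact MorphismProperty.of_postcomp (W := @IsClosedImmersion) (W' := @IsSeparated) i (U₁.ι ≫ p)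
      inferInstance this
  have h2 : Etale (i ≫ (U₁.ι ≫ p)) := by rw [hip]; infer_instance
  obtain ⟨V, hV, U, hU, hUV, t, he, het, hker⟩ :=
    Groth.Agent.Sga4h.GeoLocal.exists_etale_coordinate (U₁.ι ≫ p) i (closedPoint R)
  have hVtop : V = ⊤ := by
    rw [eq_top_iff]
    intro z _
    have h3 : (i ≫ (U₁.ι ≫ p)) (closedPoint R) ∈ V := hUV he
    rw [hip] at h3
    exact Sect.range_subset (𝟙 _) V h3 ⟨z, rfl⟩
  subst hVtop
  obtain ⟨a, ha⟩ := Sect.exists_lift hU.fromSpec i (by rw [hU.range_fromSpec]; exact he)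
  obtain ⟨α, rfl⟩ : ∃ α : Γ(U₁, U) →+* R, a = Spec.map (CommRingCat.ofHom α) :=
    ⟨(Spec.preimage a).hom, (Spec.map_preimage a).symm⟩
  let θ : R →+* Γ(Spec (CommRingCat.of R), ⊤) := (Scheme.ΓSpecIso (CommRingCat.of R)).inv.hom
  have hθ : Function.Bijective θ := ConcreteCategory.bijective_of_isIso (Scheme.ΓSpecIso (CommRingCat.of R)).inv
  obtain ⟨φ, hφX, hφC, hφ⟩ : ∃ φ : R[X] →+* Γ(U₁, U), φ Polynomial.X = t ∧
      φ.comp C = ((U₁.ι ≫ p).appLE ⊤ U hUV).hom.comp θ ∧ φ.Etale := by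
    refine ⟨(Polynomial.eval₂RingHom ((U₁.ι ≫ p).appLE ⊤ U hUV).hom t).comp (Polynomial.mapRingHom θ), by simp, ?_,
      RingHom.Etale.stableUnderComposition _ _ (RingHom.Etale.of_bijective
      ⟨Polynomial.map_injective θ hθ.1, Polynomial.map_surjective θ hθ.2⟩) het⟩
    ext r
    simp
  subst hφX
  have hfs : (isAffineOpen_top (Spec (CommRingCat.of R))).fromSpec = Spec.map (CommRingCat.ofHom θ) := by
    rw [IsAffineOpen.fromSpec_top, Scheme.isoSpec_Spec_inv]
    rfl
  have hw : Spec.map (CommRingCat.ofHom (φ.comp C)) = (hU.fromSpec ≫ U₁.ι) ≫ p := by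
    rw [hφC, CommRingCat.ofHom_comp, Spec.map_comp, Category.assoc,
      ← IsAffineOpen.SpecMap_appLE_fromSpec (U₁.ι ≫ p) (isAffineOpen_top _) hU hUV, hfs]
    rfl
  have hαφ : α.comp (φ.comp C) = RingHom.id R := by
    have h3 : Spec.map (CommRingCat.ofHom (α.comp (φ.comp C))) = Spec.map (CommRingCat.ofHom (RingHom.id R)) := by
      rw [CommRingCat.ofHom_comp, Spec.map_comp, hw, ← Category.assoc, ← Category.assoc, ha, Category.assoc, hip]
      exact (Spec.map_id _).symm
    exact congrArg CommRingCat.Hom.hom (Spec.map_injective h3)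
  have hiU : (⊤ : (Spec (CommRingCat.of R)).Opens) ≤ i ⁻¹ᵁ U := fun z _ => Sect.range_subset i U he ⟨z, rfl⟩
  have hαi : i.appLE U ⊤ hiU = CommRingCat.ofHom (θ.comp α) := by
    apply Spec.map_injective
    rw [← cancel_mono hU.fromSpec, IsAffineOpen.SpecMap_appLE_fromSpec i hU (isAffineOpen_top _) hiU, hfs,
      CommRingCat.ofHom_comp, Spec.map_comp, Category.assoc, ha]
  have hα0 : ∀ b, α b = 0 ↔ b ∈ Ideal.span {φ Polynomial.X} := by
    intro b
    rw [← hker, RingHom.mem_ker]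
    have h3 : (i.appLE U ⊤ hiU).hom b = θ (α b) := by rw [hαi]; rfl
    have hj : Function.Injective ((Spec (CommRingCat.of R)).presheaf.map (homOfLE hiU).op).hom := by
      have : IsIso ((Spec (CommRingCat.of R)).presheaf.map (homOfLE hiU).op) := by
        have h4 : i ⁻¹ᵁ U = ⊤ := top_le_iff.1 hiU
        have : IsIso (homOfLE hiU) := ⟨eqToHom h4, Subsingleton.elim _ _, Subsingleton.elim _ _⟩
        infer_instance
      exact (ConcreteCategory.bijective_of_isIso _).1
    have h5 : (i.appLE U ⊤ hiU).hom b = ((Spec (CommRingCat.of R)).presheaf.map (homOfLE hiU).op).hom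
        ((i.app U).hom b) := rfl
    constructor
    · intro h
      apply hj
      rw [← h5, h3, h, map_zero, map_zero]
    · intro h
      apply hθ.1
      rw [← h3, h5, h, map_zero, map_zero]
  have hσ' : (Spec.map (CommRingCat.ofHom α) ≫ hU.fromSpec ≫ U₁.ι) (closedPoint R) = σ (closedPoint R) := by
    rw [← Category.assoc, ha, hi]
  have hoe : IsOpenImmersion (hU.fromSpec ≫ U₁.ι) :=
    @MorphismProperty.comp_mem _ _ @IsOpenImmersion _ _ _ _ hU.fromSpec U₁.ι inferInstance inferInstance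
  exact @Coord.of_section R _ _ _ ϖ hϖ X p Γ(U₁, U) _ (hU.fromSpec ≫ U₁.ι) hoe φ hφ hw α hαφ hα0 _
    hσ'

end K742.BlowPt
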