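import Groth.Agent.CurvSt.K742.BlowPt
import Groth.Agent.FlatB.AffSpaceSmooth
import Groth.Agent.S1680
import Groth.Agent.S0065
/-!
K742.BlowPt2 : charts of the blow-up at a rational smooth point of the closed fibre.
-/

set_option autoImplicit false
universe u

open CategoryTheory CategoryTheory.Limits AlgebraicGeometry IsLocalRing Polynomial BlowUp
open Groth.Agent.Models Groth.Agent.Divis.BlowChart Groth.Agent.Models.NodeRing Groth.Agent.Models.NodeStep

namespace K742.BlowPt

variable {R : Type u} [CommRing R] [IsDomain R] [IsDiscreteValuationRing R]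

/-- The ideal of the origin of the closed fibre of the affine line. -/
noncomputable abbrev ori (ϖ : R) : Ideal R[X] := Ideal.span {X, C ϖ}

theorem isMaximal_ori {ϖ : R} (hϖ : Irreducible ϖ) : (ori ϖ).IsMaximal := by
  let ψ : R[X] →+* ResidueField R := (residue R).comp (evalRingHom 0)
  have h1 : (RingHom.ker ψ).IsMaximal := by
    apply RingHom.ker_isMaximal_of_surjective
    intro c
    obtain ⟨r, rfl⟩ := residue_surjective c
    exact ⟨C r, by simp [ψ]⟩
  have h2 : RingHom.ker ψ = ori ϖ := by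
    apply le_antisymm
    · intro f hf
      have h3 : f.coeff 0 ∈ maximalIdeal R := by
        have : ψ f = residue R (f.coeff 0) := by simp [ψ, coeff_zero_eq_eval_zero]
        rw [RingHom.mem_ker, this] at hf
        exact (residue_eq_zero_iff _).1 hf
      rw [hϖ.maximalIdeal_eq, Ideal.mem_span_singleton] at h3
      obtain ⟨r, hr⟩ := h3
      rw [← divX_mul_X_add f, hr, map_mul]
      exact Ideal.add_mem _ (Ideal.mul_mem_left _ _ (Ideal.subset_span (by simp)))
        (Ideal.mul_mem_right _ _ (Ideal.subset_span (by simp)))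
    · rw [ori, Ideal.span_le]
      rintro z (rfl | rfl)
      · rw [SetLike.mem_coe, RingHom.mem_ker]; simp [ψ]
      · rw [SetLike.mem_coe, RingHom.mem_ker]
        have : residue R ϖ = 0 := by
          rw [residue_eq_zero_iff, hϖ.maximalIdeal_eq]
          exact Ideal.mem_span_singleton_self ϖ
        simp [ψ, this]
  rw [← h2]
  exact h1

variable {ϖ : R} {X : Scheme.{u}} {p : X ⟶ Spec (CommRingCat.of R)} {x : X}

/-- The étale morphism of a coordinate. -/
noncomputable abbrev Coord.g (K : Coord ϖ p x) : Spec (CommRingCat.of K.B) ⟶ Spec (CommRingCat.of R[X]) :=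
  Spec.map (CommRingCat.ofHom K.φ)

instance Coord.etale_g (K : Coord ϖ p x) : Etale K.g := by
  rw [HasRingHomProperty.Spec_iff (P := @Etale)]
  exact K.et

theorem Coord.mem_support_iff (K : Coord ϖ p x) (z : Spec (CommRingCat.of K.B)) :
    K.g z ∈ (idl (ori ϖ)).support ↔ K.e z = x := by
  rw [mem_support_idl]
  constructor
  · intro h
    exact (congrArg K.e (K.pt z (h (Ideal.subset_span (by simp))) (h (Ideal.subset_span (by simp))))).trans K.hy
  · intro h
    have h1 : z = K.y := K.e.isOpenEmbedding.injective (h.trans K.hy.symm)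
    rw [h1, Ideal.span_le]
    rintro w (rfl | rfl)
    · exact K.hX
    · exact K.hϖ

theorem Coord.exists_etale [IsLocallyNoetherian X] (hϖ : Irreducible ϖ) (K : Coord ϖ p x) (hx : IsClosed ({x} : Set X)) {X' : Scheme.{u}}
    (b : X' ⟶ X) (hb : IsBlowUp b (Scheme.IdealSheafData.vanishingIdeal ⟨{x}, hx⟩)) {W' : Scheme.{u}}
    (b' : W' ⟶ Spec (CommRingCat.of R[X])) (hb' : IsBlowUp b' (idl (ori ϖ))) :
    ∃ q : pullback K.e b ⟶ W', Etale q ∧ q ≫ b' = pullback.fst K.e b ≫ K.g := by
  have hU' := Groth.Agent.S1680.result K.e _ b hb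
  rw [EtRadical.comap_vanishingIdeal K.e] at hU'
  have hW' := Groth.Agent.S1680.result K.g _ b' hb'
  have hrad : (ori ϖ).IsRadical := (isMaximal_ori hϖ).isPrime.isRadical
  rw [idl_eq_vanishingIdeal _ hrad, EtRadical.comap_vanishingIdeal K.g] at hW'
  have hsupp : (⟨{x}, hx⟩ : TopologicalSpace.Closeds X).preimage K.e.continuous =
      ((idl (ori ϖ)).support).preimage K.g.continuous := by
    ext u
    simp only [TopologicalSpace.Closeds.coe_preimage, Set.mem_preimage, SetLike.mem_coe]
    exact (K.mem_support_iff u).symm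
  rw [hsupp] at hU'
  obtain ⟨θ, hθ, -⟩ := Groth.Agent.Flat2C.BlowProper.exists_iso hU' hW'
  refine ⟨θ.hom ≫ pullback.snd K.g b', inferInstance, ?_⟩
  rw [← hθ, Category.assoc, Category.assoc, pullback.condition]


instance isLocallyNoetherian_line : IsLocallyNoetherian (Spec (CommRingCat.of R[X])) := by
  have : IsNoetherianRing (CommRingCat.of R[X]) := inferInstanceAs (IsNoetherianRing R[X])
  infer_instance

theorem smooth_line {R : Type u} [CommRing R] :
    SmoothOfRelativeDimension 1 (Spec.map (CommRingCat.ofHom (C : R →+* R[X]))) := by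
  let e : MvPolynomial (Fin 1) R ≃ₐ[R] R[X] := MvPolynomial.uniqueAlgEquiv R (Fin 1)
  have h0 := Groth.Agent.FlatB.AffSpaceSmooth.isStandardSmoothOfRelativeDimension R 1
  have h1 : Algebra.IsStandardSmoothOfRelativeDimension 1 R R[X] :=
    Algebra.IsStandardSmoothOfRelativeDimension.of_algEquiv 1 e
  have h : (algebraMap R R[X]).IsStandardSmoothOfRelativeDimension 1 := by
    rw [RingHom.isStandardSmoothOfRelativeDimension_algebraMap]
    exact h1
  change SmoothOfRelativeDimension 1 (Spec.map (CommRingCat.ofHom (algebraMap R R[X])))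
  rw [HasRingHomProperty.Spec_iff (P := @SmoothOfRelativeDimension 1)]
  exact RingHom.locally_of RingHom.isStandardSmoothOfRelativeDimension_respectsIso _ h

/-- Étale charts of the blow-up over the centre. -/
theorem Coord.exists_chart [IsLocallyNoetherian X] (hϖ : Irreducible ϖ) (K : Coord ϖ p x) (hx : IsClosed ({x} : Set X))
    {X' : Scheme.{u}}
    (b : X' ⟶ X) [IsLocallyNoetherian X'] (hb : IsBlowUp b (Scheme.IdealSheafData.vanishingIdeal ⟨{x}, hx⟩)) (x' : X') (hx' : b x' = x) :
    (∃ (P : Scheme.{u}) (α : P ⟶ X'), Etale α ∧ x' ∈ Set.range α ∧ Curv2.IsNodalFamily (α ≫ b ≫ p)) ∧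
      IsRegularLocalRing (X'.presheaf.stalk x') := by
  obtain ⟨W', b', hb'⟩ := Groth.Agent.Flat2C.BlowExist.exists_isBlowUp (𝓘 := idl (ori ϖ))
  obtain ⟨q, hq, hqb⟩ := K.exists_etale hϖ hx b hb b' hb'
  obtain ⟨z, hz1, hz2⟩ := Scheme.Pullback.exists_preimage_pullback (f := K.e) (g := b) K.y x' (K.hy.trans hx'.symm)
  have hw : pullback.snd K.e b ≫ b ≫ p = q ≫ b' ≫ Spec.map (CommRingCat.ofHom (C : R →+* R[X])) := by
    rw [← Category.assoc, ← pullback.condition, Category.assoc, ← K.w, reassoc_of% hqb, CommRingCat.ofHom_comp,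
      Spec.map_comp]
  have key : ∀ (V : W'.Opens) (Z : Scheme.{u}) (ε : V.toScheme ≅ Z) (h : Z ⟶ Spec (CommRingCat.of R)),
      ε.hom ≫ h = V.ι ≫ b' ≫ Spec.map (CommRingCat.ofHom (C : R →+* R[X])) → q z ∈ V → IsLocallyNoetherian Z →
      Curv2.IsNodalFamily h → (∀ w : Z, IsRegularLocalRing (Z.presheaf.stalk w)) →
      (∃ (P : Scheme.{u}) (α : P ⟶ X'), Etale α ∧ x' ∈ Set.range α ∧ Curv2.IsNodalFamily (α ≫ b ≫ p)) ∧
        IsRegularLocalRing (X'.presheaf.stalk x') := by
    intro V Z ε h hε hV hN hn hr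
    let α : (q ⁻¹ᵁ V).toScheme ⟶ X' := (q ⁻¹ᵁ V).ι ≫ pullback.snd K.e b
    let β : (q ⁻¹ᵁ V).toScheme ⟶ Z := (q ∣_ V) ≫ ε.hom
    let z' : (q ⁻¹ᵁ V).toScheme := ⟨z, hV⟩
    have hα : α z' = x' := hz2
    have hαβ : α ≫ b ≫ p = β ≫ h := by
      rw [Category.assoc, Category.assoc, hw, hε, morphismRestrict_ι_assoc]
    refine ⟨⟨_, α, inferInstance, ⟨z', hα⟩, ?_⟩, ?_⟩
    · rw [hαβ]
      exact Groth.Agent.S1592.result _ hn β
    · have h1 := Groth.Agent.S0065.result α z'
      have h2 := Groth.Agent.S0065.result β z'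
      rw [← hα]
      exact h1.1 (h2.2 (hr _))
  rcases BlowLine.mem_or ϖ b' hb' (q z) with h | h
  · obtain ⟨ε, hε⟩ := BlowLine.exists_chart_X ϖ b' hϖ hb'
    refine key _ _ ε (Spec.map (CommRingCat.ofHom (algebraMap R (W R ϖ)))) ?_ h ?_ (NodeNodal.isNodalFamily R ϖ) ?_
    · rw [← reassoc_of% hε, ← Spec.map_comp, ← CommRingCat.ofHom_comp]
      congr 3
      ext r
      simp
    · have : IsNoetherianRing (CommRingCat.of (W R ϖ)) := inferInstanceAs (IsNoetherianRing (W R ϖ))
      infer_instance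
    · intro w
      exact stalk_isRegular_of_le_one ϖ hϖ 1 le_rfl (pow_one ϖ).symm w
  · obtain ⟨ε, hε⟩ := BlowLine.exists_chart_t ϖ b' hϖ.ne_zero hb'
    refine key _ _ ε (Spec.map (CommRingCat.ofHom (C : R →+* R[X]))) ?_ h inferInstance ?_ ?_
    · rw [← reassoc_of% hε, ← Spec.map_comp, ← CommRingCat.ofHom_comp]
      congr 3
      ext r
      simp
    · have := smooth_line (R := R)
      exact Groth.Agent.CurvesB.NodalExist.isNodalFamily_of_smooth _
    · intro w
      rw [stalk_isRegular_iff]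
      exact IsRegularRing.isRegularLocalRing_localization _

end K742.BlowPt
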