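import Groth.Agent.CurvSt.K742.BlowPt2
/-!
K742.BlowPt3 : sections over a discrete valuation ring lift to the blow-up of a rational smooth point of the closed
fibre, and the order of contact of two sections through the point drops.
-/

set_option autoImplicit false
universe u

open CategoryTheory CategoryTheory.Limits AlgebraicGeometry IsLocalRing Polynomial BlowUp
open Groth.Agent.Models Groth.Agent.Divis.BlowChart Groth.Agent.Models.NodeRing Groth.Agent.Models.NodeStep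

namespace K742.BlowPt

/-- On the spectrum of a principal ideal domain a nonzero ideal is effective Cartier. -/
theorem isEff_of_notMem {R : Type u} [CommRing R] [IsDomain R] [IsPrincipalIdealRing R]
    (I : (Spec (CommRingCat.of R)).IdealSheafData) (z : Spec (CommRingCat.of R)) (hz : z ∉ I.support) :
    IsEffCartierIdeal I := by
  intro x
  have e : Γ(Spec (CommRingCat.of R), ⊤) ≃+* R := (Scheme.ΓSpecIso (CommRingCat.of R)).commRingCatIsoToRingEquiv
  have hd : IsDomain Γ(Spec (CommRingCat.of R), ⊤) := MulEquiv.isDomain R e.toMulEquiv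
  have hp : IsPrincipalIdealRing Γ(Spec (CommRingCat.of R), ⊤) :=
    IsPrincipalIdealRing.of_surjective e.symm.toRingHom e.symm.surjective
  refine ⟨⟨⊤, isAffineOpen_top _⟩, trivial, ?_⟩
  obtain ⟨f, hf⟩ := (hp.principal (I.ideal ⟨⊤, isAffineOpen_top _⟩)).principal
  refine ⟨f, ?_, hf⟩
  apply mem_nonZeroDivisors_of_ne_zero
  rintro rfl
  apply hz
  have h1 : I = ⊥ := by
    apply Scheme.IdealSheafData.ext_of_isAffine
    rw [hf]
    simp
  rw [h1, Scheme.IdealSheafData.support_bot]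
  trivial

/-- Formally unramified maps: two points which agree modulo the maximal ideal and after composition agree. -/
theorem sub_mem_of_etale {R A B : Type u} [CommRing R] [CommRing A] [CommRing B] (m : Ideal R) (φ : A →+* B)
    (hφ : φ.Etale) (α β : B →+* R) (k : ℕ) (h1 : ∀ a, α (φ a) - β (φ a) ∈ m ^ (k + 1)) (h2 : ∀ b, α b - β b ∈ m)
    (b : B) : α b - β b ∈ m ^ (k + 1) := by
  let Q := R ⧸ m ^ (k + 1)
  let algAB : Algebra A B := φ.toAlgebra
  let algAQ : Algebra A Q := ((Ideal.Quotient.mk (m ^ (k + 1))).comp (α.comp φ)).toAlgebra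
  have hu : Algebra.FormallyUnramified A B := hφ.formallyUnramified
  let g₁ : B →ₐ[A] Q := { (Ideal.Quotient.mk (m ^ (k + 1))).comp α with commutes' := fun a => rfl }
  let g₂ : B →ₐ[A] Q := { (Ideal.Quotient.mk (m ^ (k + 1))).comp β with
    commutes' := fun a => (Ideal.Quotient.eq.2 (h1 a)).symm }
  have hI : IsNilpotent (m.map (Ideal.Quotient.mk (m ^ (k + 1)))) := by
    refine ⟨k + 1, ?_⟩
    rw [← Ideal.map_pow, Ideal.map_quotient_self]
    rfl
  have h3 : g₁ = g₂ := by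
    apply Algebra.FormallyUnramified.lift_unique (m.map (Ideal.Quotient.mk (m ^ (k + 1)))) hI
    ext b
    refine Ideal.Quotient.eq.2 ?_
    change Ideal.Quotient.mk _ (α b) - Ideal.Quotient.mk _ (β b) ∈ _
    rw [← map_sub]
    exact Ideal.mem_map_of_mem _ (h2 b)
  have h4 : Ideal.Quotient.mk (m ^ (k + 1)) (α b) = Ideal.Quotient.mk (m ^ (k + 1)) (β b) :=
    DFunLike.congr_fun h3 b
  exact Ideal.Quotient.eq.1 h4

variable {R : Type u} [CommRing R] [IsDomain R] [IsDiscreteValuationRing R]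

theorem isEff_comap_eval {ϖ : R} (hϖ : Irreducible ϖ) (c : R) :
    IsEffCartierIdeal ((idl (ori ϖ)).comap (Spec.map (CommRingCat.ofHom (evalRingHom c)))) := by
  apply isEff_of_notMem _ (⊥ : PrimeSpectrum R)
  rw [Scheme.IdealSheafData.support_comap]
  intro h
  have h1 : Spec.map (CommRingCat.ofHom (evalRingHom c)) (⊥ : PrimeSpectrum R) ∈ (idl (ori ϖ)).support := h
  rw [mem_support_idl] at h1
  have h2 : C ϖ ∈ (Spec.map (CommRingCat.ofHom (evalRingHom c)) (⊥ : PrimeSpectrum R)).asIdeal :=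
    h1 (Ideal.subset_span (by simp))
  have h3 : evalRingHom c (C ϖ) ∈ (⊥ : Ideal R) := h2
  rw [Ideal.mem_bot] at h3
  exact hϖ.ne_zero (by simpa using h3)

variable {ϖ : R} {X : Scheme.{u}} {p : X ⟶ Spec (CommRingCat.of R)} {x : X}

theorem Coord.exists_hom (K : Coord ϖ p x) (hϖ : Irreducible ϖ) (τ : Spec (CommRingCat.of R) ⟶ X) (hτ : τ ≫ p = 𝟙 _)
    (hx : τ (closedPoint R) = x) : ∃ (α : K.B →+* R) (d : R), Spec.map (CommRingCat.ofHom α) ≫ K.e = τ ∧
      α.comp K.φ = evalRingHom (ϖ * d) := by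
  obtain ⟨a, ha⟩ := Sect.exists_lift K.e τ ⟨K.y, K.hy.trans hx.symm⟩
  obtain ⟨α, rfl⟩ : ∃ α : K.B →+* R, a = Spec.map (CommRingCat.ofHom α) :=
    ⟨(Spec.preimage a).hom, (Spec.map_preimage a).symm⟩
  have h1 : α.comp (K.φ.comp C) = RingHom.id R := by
    have h3 : Spec.map (CommRingCat.ofHom (α.comp (K.φ.comp C))) = Spec.map (CommRingCat.ofHom (RingHom.id R)) := by
      rw [CommRingCat.ofHom_comp, Spec.map_comp, K.w, reassoc_of% ha, hτ]
      exact (Spec.map_id _).symm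
    exact congrArg CommRingCat.Hom.hom (Spec.map_injective h3)
  have h2 : Spec.map (CommRingCat.ofHom α) (closedPoint R) = K.y := by
    apply K.e.isOpenEmbedding.injective
    have h3 : (Spec.map (CommRingCat.ofHom α) ≫ K.e) (closedPoint R) = x := by rw [ha]; exact hx
    exact h3.trans K.hy.symm
  have h3 : α (K.φ Polynomial.X) ∈ maximalIdeal R := by
    rw [← Sect.spec_closedPoint, h2]
    exact K.hX
  rw [hϖ.maximalIdeal_eq, Ideal.mem_span_singleton] at h3
  obtain ⟨d, hd⟩ := h3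
  refine ⟨α, d, ha, ?_⟩
  apply Polynomial.ringHom_ext
  · intro r
    have := RingHom.congr_fun h1 r
    simpa using this
  · simpa using hd

theorem Coord.agree_succ [IsLocallyNoetherian X] (K : Coord ϖ p x) (hϖ : Irreducible ϖ) (hx : IsClosed ({x} : Set X))
    {X' : Scheme.{u}} (b : X' ⟶ X) (hb : IsBlowUp b (Scheme.IdealSheafData.vanishingIdeal ⟨{x}, hx⟩))
    (τ₁ τ₂ : Spec (CommRingCat.of R) ⟶ X') (h₁ : τ₁ ≫ b ≫ p = 𝟙 _) (h₂ : τ₂ ≫ b ≫ p = 𝟙 _)
    (hx₁ : (τ₁ ≫ b) (closedPoint R) = x) (hx₂ : (τ₂ ≫ b) (closedPoint R) = x) (k : ℕ)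
    (h : Sect.Agree (maximalIdeal R ^ k) τ₁ τ₂) :
    Sect.Agree (maximalIdeal R ^ (k + 1)) (τ₁ ≫ b) (τ₂ ≫ b) := by
  have h₁' : (τ₁ ≫ b) ≫ p = 𝟙 _ := by rw [Category.assoc, h₁]
  have h₂' : (τ₂ ≫ b) ≫ p = 𝟙 _ := by rw [Category.assoc, h₂]
  obtain ⟨α, c, hα, hαc⟩ := K.exists_hom hϖ (τ₁ ≫ b) h₁' hx₁
  obtain ⟨β, d, hβ, hβd⟩ := K.exists_hom hϖ (τ₂ ≫ b) h₂' hx₂
  obtain ⟨W', b', hb'⟩ := Groth.Agent.Flat2C.BlowExist.exists_isBlowUp (𝓘 := idl (ori ϖ))
  obtain ⟨q, hq, hqb⟩ := K.exists_etale hϖ hx b hb b' hb'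
  obtain ⟨ε, hε⟩ := BlowLine.exists_chart_t ϖ b' hϖ.ne_zero hb'
  have key : ∀ (γ : K.B →+* R) (e : R) (τ : Spec (CommRingCat.of R) ⟶ X')
      (hγ : Spec.map (CommRingCat.ofHom γ) ≫ K.e = τ ≫ b) (hγe : γ.comp K.φ = evalRingHom (ϖ * e)),
      pullback.lift (Spec.map (CommRingCat.ofHom γ)) τ hγ ≫ q =
        Spec.map (CommRingCat.ofHom (evalRingHom e)) ≫ ε.inv ≫
          (chartLocus (Ideal.span {Polynomial.X, C ϖ}) b' (C ϖ)).ι := by
    intro γ e τ hγ hγe
    have h3 : (pullback.lift (Spec.map (CommRingCat.ofHom γ)) τ hγ ≫ q) ≫ b' =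
        Spec.map (CommRingCat.ofHom (evalRingHom (ϖ * e))) := by
      rw [Category.assoc, hqb, pullback.lift_fst_assoc, ← Spec.map_comp, ← CommRingCat.ofHom_comp, hγe]
    have h4 : (Spec.map (CommRingCat.ofHom (evalRingHom e)) ≫ ε.inv ≫
          (chartLocus (Ideal.span {Polynomial.X, C ϖ}) b' (C ϖ)).ι) ≫ b' =
        Spec.map (CommRingCat.ofHom (evalRingHom (ϖ * e))) := by
      rw [Category.assoc, Category.assoc, ← hε, ε.inv_hom_id_assoc, ← Spec.map_comp, ← CommRingCat.ofHom_comp]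
      congr 2
      apply Polynomial.ringHom_ext
      · intro r; simp
      · simp
    obtain ⟨w, -, hw⟩ := hb'.2 _ _ (isEff_comap_eval hϖ (ϖ * e))
    rw [hw _ h3, hw _ h4]
  have hv : Sect.Agree (maximalIdeal R ^ k) (pullback.lift (Spec.map (CommRingCat.ofHom α)) τ₁ hα)
      (pullback.lift (Spec.map (CommRingCat.ofHom β)) τ₂ hβ) := by
    apply Sect.Agree.of_comp (pullback.snd K.e b)
    rw [pullback.lift_snd, pullback.lift_snd]
    exact h
  have hs := hv.comp q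
  rw [key α c τ₁ hα hαc, key β d τ₂ hβ hβd] at hs
  have hs' := Sect.Agree.of_comp _ hs
  rw [Sect.agree_spec] at hs'
  have hcd : c - d ∈ maximalIdeal R ^ k := by simpa using hs' Polynomial.X
  have hϖm : ϖ ∈ maximalIdeal R := by
    rw [hϖ.maximalIdeal_eq]; exact Ideal.mem_span_singleton_self ϖ
  have hcd' : ϖ * c - ϖ * d ∈ maximalIdeal R ^ (k + 1) := by
    rw [← mul_sub, pow_succ']
    exact Ideal.mul_mem_mul hϖm hcd
  rw [← hα, ← hβ]
  refine Sect.Agree.comp ((Sect.agree_spec _ _ _).2 fun y => ?_) K.e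
  refine sub_mem_of_etale (maximalIdeal R) K.φ K.et α β k (fun f => ?_) (fun z => ?_) y
  · have e1 : α (K.φ f) = f.eval (ϖ * c) := RingHom.congr_fun hαc f
    have e2 : β (K.φ f) = f.eval (ϖ * d) := RingHom.congr_fun hβd f
    rw [e1, e2]
    obtain ⟨r, hr⟩ := Polynomial.sub_dvd_eval_sub (ϖ * c) (ϖ * d) f
    rw [hr]
    exact Ideal.mul_mem_right _ _ hcd'
  · have h5 := Sect.agree_maximalIdeal p (τ₁ ≫ b) (τ₂ ≫ b) h₁' h₂' (hx₁.trans hx₂.symm)
    rw [← hα, ← hβ] at h5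
    exact (Sect.agree_spec _ _ _).1 (Sect.Agree.of_comp K.e h5) z

end K742.BlowPt
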