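import Groth.Agent.CurvSt.K742.BlowPt3
import Groth.Agent.Divis.BlowUpFormal
import Groth.Agent.Ega2.BlowBasic
import Groth.Agent.Flat2C.BlowProper
import Mathlib.AlgebraicGeometry.Morphisms.FiniteType
/-!
K742.BlowStep : separating sections of a regular proper nodal family over a discrete valuation ring by blow-ups.
-/

set_option autoImplicit false
universe u

open CategoryTheory CategoryTheory.Limits AlgebraicGeometry IsLocalRing Polynomial BlowUp
open Groth.Agent.Ega2.BlowBasic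

namespace K742.BlowStep

theorem isIso_snd_of_range {X' X C : Scheme.{u}} (b : X' ⟶ X) (U : X.Opens) [IsIso (b ∣_ U)] (i : C ⟶ X)
    (hi : Set.range i ⊆ U) : IsIso (pullback.snd b i) := by
  let l : C ⟶ U := IsOpenImmersion.lift U.ι i (by simpa using hi)
  have hl : l ≫ U.ι = i := IsOpenImmersion.lift_fac _ _ _
  have h1 : IsPullback (b ⁻¹ᵁ U).ι (b ∣_ U) b U.ι := (isPullback_morphismRestrict b U).flip
  have hw : pullback.fst b i ≫ b = (pullback.snd b i ≫ l) ≫ U.ι := by
    rw [Category.assoc, hl, pullback.condition]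
  have h2 : IsPullback (h1.lift _ _ hw) (pullback.snd b i) (b ∣_ U) l := by
    refine IsPullback.of_right (h₁₂ := (b ⁻¹ᵁ U).ι) ?_ (h1.lift_snd _ _ _) h1
    rw [h1.lift_fst, hl]
    exact IsPullback.of_hasPullback b i
  exact MorphismProperty.of_isPullback (P := MorphismProperty.isomorphisms _) h2 ‹IsIso (b ∣_ U)›

theorem isIso_offSupport {X X' : Scheme.{u}} {𝓘 : X.IdealSheafData} {b : X' ⟶ X} (hb : BlowUp.IsBlowUp b 𝓘) :
    IsIso (b ∣_ offSupport 𝓘) := by
  refine Groth.Agent.Divis.BlowUpFormal.isIso_of_isBlowUp_of_isEff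
    (Groth.Agent.Divis.BlowUpFormal.isBlowUp_morphismRestrict hb (offSupport 𝓘)) ?_
  rw [comap_eq_top_of_range (f := (offSupport 𝓘).ι) (I := 𝓘) (fun x => x.2)]
  exact isEffCartierIdeal_top

variable {R : Type u} [CommRing R] [IsDomain R] [IsDiscreteValuationRing R]

/-- `b` is an isomorphism over every base change of `p` missing the closed point. -/
def IsoOff {X' X : Scheme.{u}} (b : X' ⟶ X) (p : X ⟶ Spec (CommRingCat.of R)) : Prop :=
  ∀ (T C : Scheme.{u}) (c : T ⟶ Spec (CommRingCat.of R)) (i : C ⟶ X) (g : C ⟶ T),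
    closedPoint R ∉ Set.range c → IsPullback i g p c → ∃ i' : C ⟶ X', IsPullback i' g (b ≫ p) c ∧ i' ≫ b = i

theorem IsoOff.id {X : Scheme.{u}} (p : X ⟶ Spec (CommRingCat.of R)) : IsoOff (𝟙 X) p :=
  fun _ _ _ i _ _ h => ⟨i, by simpa using h, Category.comp_id _⟩

theorem IsoOff.comp {X'' X' X : Scheme.{u}} {b' : X'' ⟶ X'} {b : X' ⟶ X} {p : X ⟶ Spec (CommRingCat.of R)}
    (h : IsoOff b p) (h' : IsoOff b' (b ≫ p)) : IsoOff (b' ≫ b) p := by
  intro T C c i g hc hi
  obtain ⟨i', h1, h2⟩ := h T C c i g hc hi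
  obtain ⟨i'', h3, h4⟩ := h' T C c i' g hc h1
  exact ⟨i'', by simpa using h3, by rw [← Category.assoc, h4, h2]⟩

theorem isoOff_of_isBlowUp {X' X : Scheme.{u}} {b : X' ⟶ X} {p : X ⟶ Spec (CommRingCat.of R)} {I : X.IdealSheafData}
    (hb : IsBlowUp b I) (hI : ∀ x ∈ I.support, p x = closedPoint R) : IsoOff b p := by
  intro T C c i g hc h
  have hU := isIso_offSupport hb
  have hiso : IsIso (pullback.snd b i) := by
    refine isIso_snd_of_range b (offSupport I) i ?_
    rintro _ ⟨z, rfl⟩ hz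
    apply hc
    refine ⟨g z, ?_⟩
    rw [← hI _ hz]
    have : (i ≫ p) z = (g ≫ c) z := by rw [h.w]
    exact this.symm
  have h1 : IsPullback (pullback.fst b i) (pullback.snd b i ≫ g) (b ≫ p) c :=
    ((IsPullback.of_hasPullback b i).flip.paste_horiz h.flip).flip
  refine ⟨inv (pullback.snd b i) ≫ pullback.fst b i, ?_, ?_⟩
  · refine IsPullback.of_iso h1 (asIso (pullback.snd b i)) (Iso.refl _) (Iso.refl _) (Iso.refl _) ?_ ?_ ?_ ?_
    · simp
    · simp
    · simp
    · simp
  · rw [Category.assoc, pullback.condition, IsIso.inv_hom_id_assoc]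

theorem isClosed_point {X : Scheme.{u}} (p : X ⟶ Spec (CommRingCat.of R)) [IsSeparated p]
    (σ : Spec (CommRingCat.of R) ⟶ X) (hσ : σ ≫ p = 𝟙 _) : IsClosed ({σ (closedPoint R)} : Set X) := by
  have h1 : IsClosedImmersion σ := by
    have : IsClosedImmersion (σ ≫ p) := by rw [hσ]; infer_instance
    exact MorphismProperty.of_postcomp (W := @IsClosedImmersion) (W' := @IsSeparated) σ p inferInstance this
  let c : Spec (CommRingCat.of R) := closedPoint R
  have h2 : IsClosed ({c} : Set (Spec (CommRingCat.of R))) :=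
    (PrimeSpectrum.isClosed_singleton_iff_isMaximal (closedPoint R)).2 (maximalIdeal.isMaximal R)
  have h3 := σ.isClosedEmbedding.isClosedMap _ h2
  have h4 : σ '' {c} = {σ c} := Set.image_singleton
  rw [h4] at h3
  exact h3

theorem exists_step {X : Scheme.{u}} (p : X ⟶ Spec (CommRingCat.of R)) [IsProper p] (hn : Curv2.IsNodalFamily p)
    (hr : ∀ x : X, IsRegularLocalRing (X.presheaf.stalk x)) (σ : Spec (CommRingCat.of R) ⟶ X) (hσ : σ ≫ p = 𝟙 _)
    (U₁ : X.Opens) [SmoothOfRelativeDimension 1 (U₁.ι ≫ p)] (hU₁ : σ (closedPoint R) ∈ U₁) :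
    ∃ (X' : Scheme.{u}) (b : X' ⟶ X), IsProper b ∧ Curv2.IsNodalFamily (b ≫ p) ∧
      (∀ x : X', IsRegularLocalRing (X'.presheaf.stalk x)) ∧ IsoOff b p ∧
      (∀ τ : Spec (CommRingCat.of R) ⟶ X, τ ≫ p = 𝟙 _ → ∃ τ', τ' ≫ b = τ) ∧
      ∀ (τ₁ τ₂ : Spec (CommRingCat.of R) ⟶ X') (k : ℕ), τ₁ ≫ b ≫ p = 𝟙 _ → τ₂ ≫ b ≫ p = 𝟙 _ →
        (τ₁ ≫ b) (closedPoint R) = σ (closedPoint R) → (τ₂ ≫ b) (closedPoint R) = σ (closedPoint R) →
        Sect.Agree (maximalIdeal R ^ k) τ₁ τ₂ → Sect.Agree (maximalIdeal R ^ (k + 1)) (τ₁ ≫ b) (τ₂ ≫ b) := by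
  obtain ⟨ϖ, hϖ⟩ := IsDiscreteValuationRing.exists_irreducible R
  have hfp := hn.2.1
  have hRN : IsLocallyNoetherian (Spec (CommRingCat.of R)) := by
    have : IsNoetherianRing (CommRingCat.of R) := inferInstanceAs (IsNoetherianRing R)
    infer_instance
  have hXN : IsLocallyNoetherian X := LocallyOfFiniteType.isLocallyNoetherian p
  have hpx : p (σ (closedPoint R)) = closedPoint R := by
    change (σ ≫ p) (closedPoint R) = _
    rw [hσ]; rfl
  have hx : IsClosed ({σ (closedPoint R)} : Set X) := isClosed_point p σ hσ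
  obtain ⟨K⟩ := BlowPt.exists_coord hϖ p U₁ σ hσ hU₁
  obtain ⟨X', b, hb⟩ := Groth.Agent.Flat2C.BlowExist.exists_isBlowUp
    (𝓘 := Scheme.IdealSheafData.vanishingIdeal (X := X) ⟨{σ (closedPoint R)}, hx⟩)
  have hsup : ∀ z : X, z ∈ (Scheme.IdealSheafData.vanishingIdeal (X := X) ⟨{σ (closedPoint R)}, hx⟩).support ↔
      z = σ (closedPoint R) := by
    intro z
    rw [← SetLike.mem_coe, Scheme.IdealSheafData.coe_support_vanishingIdeal]
    rfl
  have hbp : IsProper b := Groth.Agent.Flat2C.BlowProper.isProper_of_isBlowUp hb (K793.Chart.isFiniteTypeIdeal _)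
  have hX'N : IsLocallyNoetherian X' := LocallyOfFiniteType.isLocallyNoetherian b
  have hoff : IsoOff b p := by
    refine isoOff_of_isBlowUp hb fun z hz => ?_
    rw [(hsup z).1 hz, hpx]
  obtain ⟨r, hr', hrb⟩ := exists_isIso_offSupport hb
  have hmem : ∀ x' : X', b x' ≠ σ (closedPoint R) →
      x' ∈ offSupport ((Scheme.IdealSheafData.vanishingIdeal (X := X) ⟨{σ (closedPoint R)}, hx⟩).comap b) := by
    intro x' h
    change x' ∉ (Scheme.IdealSheafData.comap _ b).support
    rw [Scheme.IdealSheafData.support_comap]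
    intro h1
    exact h ((hsup _).1 h1)
  refine ⟨X', b, hbp, ?_, ?_, hoff, ?_, ?_⟩
  · apply K793.Chart.isNodalFamily_of_forall
    intro x'
    by_cases h : b x' = σ (closedPoint R)
    · exact (K.exists_chart hϖ hx b hb x' h).1
    · refine ⟨_, (offSupport ((Scheme.IdealSheafData.vanishingIdeal (X := X)
        ⟨{σ (closedPoint R)}, hx⟩).comap b)).ι, inferInstance, ?_, ?_⟩
      · rw [Scheme.Opens.range_ι]
        exact hmem x' h
      · rw [← Category.assoc, ← hrb, Category.assoc]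
        exact Groth.Agent.S1592.result _ (Groth.Agent.S1592.result p hn _) r
  · intro x'
    by_cases h : b x' = σ (closedPoint R)
    · exact (K.exists_chart hϖ hx b hb x' h).2
    · let V := offSupport ((Scheme.IdealSheafData.vanishingIdeal (X := X) ⟨{σ (closedPoint R)}, hx⟩).comap b)
      let v : V := ⟨x', hmem x' h⟩
      have e1 := Groth.Agent.S0065.result V.ι v
      have hN : IsLocallyNoetherian (offSupport (Scheme.IdealSheafData.vanishingIdeal (X := X)
        ⟨{σ (closedPoint R)}, hx⟩)).toScheme := inferInstance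
      have e2 := Groth.Agent.S0065.result (r ≫ (offSupport (Scheme.IdealSheafData.vanishingIdeal (X := X)
        ⟨{σ (closedPoint R)}, hx⟩)).ι) v
      exact e1.1 (e2.2 (hr _))
  · intro τ hτ
    have heff : IsEffCartierIdeal ((Scheme.IdealSheafData.vanishingIdeal (X := X)
        ⟨{σ (closedPoint R)}, hx⟩).comap τ) := by
      apply BlowPt.isEff_of_notMem _ (⊥ : PrimeSpectrum R)
      rw [Scheme.IdealSheafData.support_comap]
      intro h
      have h1 : τ (⊥ : PrimeSpectrum R) = σ (closedPoint R) := (hsup _).1 h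
      have h2 : (τ ≫ p) (⊥ : PrimeSpectrum R) = closedPoint R := by
        rw [← hpx, ← h1]; rfl
      rw [hτ] at h2
      have h3 : (⊥ : PrimeSpectrum R) = closedPoint R := h2
      have h4 : (⊥ : Ideal R) = maximalIdeal R := congrArg PrimeSpectrum.asIdeal h3
      exact IsDiscreteValuationRing.not_a_field R h4.symm
    obtain ⟨τ', h1, -⟩ := hb.2 _ τ heff
    exact ⟨τ', h1⟩
  · intro τ₁ τ₂ k h1 h2 h3 h4 h5
    exact K.agree_succ hϖ hx b hb τ₁ τ₂ h1 h2 h3 h4 k h5

end K742.BlowStep
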