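import Groth.Agent.CurvSt.K742.AtlasFam0
/-!
K742.Atlas0 (continued) : representability of a chart is étale local on the base (hom universe `u`).
-/

set_option autoImplicit false
set_option backward.isDefEq.respectTransparency false
set_option backward.isDefEq.respectTransparency.types false
universe w v₂ u₂ v u

open CategoryTheory Opposite K734.Fib AlgebraicGeometry Limits K747 K747.Sc K594.Cover

namespace K742.Atlas0

variable {S : Scheme.{u}} {𝒳 : BasedCategory.{u, w} (Over S)}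
variable {T : Over S}

section pj

variable (h𝒳 : FibCat.IsFibGrpd 𝒳.p) {U T' : Over S} (x : FibCat.overCat T ⥤ᵇ 𝒳) (z : FibCat.overCat U ⥤ᵇ 𝒳)
  (k : T' ⟶ T)

/-- precomposition of the first functor with a morphism of schemes -/
noncomputable def pjT : P h𝒳 (BasedFunctor.comp (AlgSt.overMap k) x) z ⟶ P h𝒳 x z where
  app V := ↾fun s => ⟨(⟨s.down.t ≫ k, s.down.u, s.down.φ, s.down.over⟩ : Sec x z _)⟩
  naturality V V' g := by
    ext s
    refine Eq.symm ((psh_map_eq_iff.{u+1} h𝒳).2 ?_)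
    obtain ⟨h1, h2, h3⟩ := isRes_res h𝒳 g.unop s.down
    refine ⟨?_, h2, ?_⟩
    · change g.unop ≫ s.down.t ≫ k = (res h𝒳 g.unop s.down).t ≫ k
      rw [← h1, Category.assoc]
    · exact h3

theorem isPullback_pjT : IsPullback (pjT h𝒳 x z k) (prT h𝒳 (BasedFunctor.comp (AlgSt.overMap k) x) z) (prT h𝒳 x z)
    ((AlgSp.pyon S).map k) := by
  apply K739.Diag.isPullback_psh
  · intro V s
    rfl
  · rintro V ⟨t, u, φ, o⟩ ⟨t', u', φ', o'⟩ h1 h2
    obtain rfl : t = t' := congrArg ULift.down h2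
    have h3 : (⟨t ≫ k, u, φ, o⟩ : Sec x z V) = ⟨t ≫ k, u', φ', o'⟩ := congrArg ULift.down h1
    injection h3 with h4 h5 h6
    subst h5
    have h7 := eq_of_heq h6
    subst h7
    rfl
  · rintro V ⟨t, u, φ, o⟩ ⟨t'⟩ h
    obtain rfl : t = t' ≫ k := congrArg ULift.down h
    exact ⟨⟨(⟨t', u, φ, o⟩ : Sec (BasedFunctor.comp (AlgSt.overMap k) x) z V)⟩, rfl, rfl⟩

end pj

/-- Representability by algebraic spaces with an étale local property can be checked étale locally on the base. -/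
theorem repByAlgSpWith_of_local_base (hs : Stk.IsPrestack (AlgSp.J S) 𝒳) {Q : MorphismProperty Scheme.{u}}
    (hE : K597.EtLoc Q) {U : Over S} (X : FibCat.overCat U ⥤ᵇ 𝒳)
    (H : ∀ (T : Over S) (y : FibCat.overCat T ⥤ᵇ 𝒳) (t : T.left), ∃ (V : Over S) (g : V ⟶ T) (v : V.left),
      Etale g.left ∧ g.left v = t ∧ ∃ (F : AlgSp.Space S)
        (e : AlgSt.ofSp F.obj ⥤ᵇ FibCat.fp (BasedFunctor.comp (AlgSt.overMap g) y) X),
        FibCat.IsEquivOver e ∧ AlgSp.LocP Q (AlgSt.spMapOfOver (BasedFunctor.comp e (FibCat.fpFst _ X)))) :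
    AlgSt.RepByAlgSpWith (AlgSp.LocP Q) X := by
  intro T y
  refine (Rep.with_iff (AlgSp.LocP Q) (FibCat.fpFst y X) (toFp_isEquivOver.{u + 1} hs.1 y X)).2 ?_
  have hG := isSheaf_P hs y X
  let G : AlgSp.Sp S := ⟨P hs.1 y X, hG⟩
  choose V g v hg hv F0 hF0 using fun t => H T y t
  have hrep : ∀ t, ∃ h : Presheaf.IsSheaf (AlgSp.J S) (P hs.1 (BasedFunctor.comp (AlgSt.overMap (g t)) y) X),
      AlgSp.IsAlgSpace (⟨_, h⟩ : AlgSp.Sp S) ∧ AlgSp.LocP Q (ObjectProperty.homMk
        (prT hs.1 (BasedFunctor.comp (AlgSt.overMap (g t)) y) X) : (⟨_, h⟩ : AlgSp.Sp S) ⟶ (AlgSp.yon S).obj (V t)) := by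
    intro t
    obtain ⟨h, h1, h2⟩ := (Rep.with_iff (AlgSp.LocP Q) (FibCat.fpFst _ X)
      (toFp_isEquivOver.{u + 1} hs.1 (BasedFunctor.comp (AlgSt.overMap (g t)) y) X)).1 ⟨F0 t, hF0 t⟩
    refine ⟨h, h1, ?_⟩
    rw [← pMap_toFp_fst]
    exact h2
  choose hF hA hQ using hrep
  let F : T.left → AlgSp.Sp S := fun t => ⟨P hs.1 (BasedFunctor.comp (AlgSt.overMap (g t)) y) X, hF t⟩
  let f : ∀ t, F t ⟶ G := fun t => ObjectProperty.homMk (pjT hs.1 y X (g t))
  have sq : ∀ t, IsPullback (f t) (ObjectProperty.homMk (prT hs.1 (BasedFunctor.comp (AlgSt.overMap (g t)) y) X) :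
      F t ⟶ (AlgSp.yon S).obj (V t)) (ObjectProperty.homMk (prT hs.1 y X) : G ⟶ (AlgSp.yon S).obj T)
      ((AlgSp.yon S).map (g t)) := fun t =>
    IsPullback.of_map_of_faithful (sheafToPresheaf (AlgSp.J S) (Type (u + 1))) (isPullback_pjT hs.1 y X (g t))
  have het : ∀ t, AlgSp.RepWith @Etale (f t) := fun t =>
    MorphismProperty.of_isPullback (sq t).flip ((AlgSp.repWith_yon_map_iff _ _).2 (hg t))
  have hFam : Fam g := ⟨fun t => by have := hg t; infer_instance, fun t => by have := hg t; infer_instance,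
    fun t => ⟨t, v t, hv t⟩⟩
  have hloc : ∀ {W : Over S} (s : G.obj.obj (op W)), ∃ (κ' : Type u) (W' : κ' → Over S)
      (g' : ∀ k, W' k ⟶ W) (_ : Fam g') (i : κ' → T.left) (x : ∀ k, (F (i k)).obj.obj (op (W' k))),
      ∀ k, (f (i k)).hom.app (op (W' k)) (x k) = G.obj.map (g' k).op s := by
    intro W s
    obtain ⟨W', g', h, sq', hfam⟩ := K594.FamRep.Fam.exists_baseChange hFam s.down.t
    refine ⟨T.left, W', g', hfam, id, ?_⟩
    have key : ∀ i, ∃ x : (F i).obj.obj (op (W' i)), (f i).hom.app (op (W' i)) x = G.obj.map (g' i).op s := by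
      intro i
      have e : (prT hs.1 y X).app (op (W' i)) (G.obj.map (g' i).op s) =
          ((AlgSp.pyon S).map (g i)).app (op (W' i)) ⟨h i⟩ := by
        refine congrArg ULift.up ?_
        have h1 := (isRes_res hs.1 (g' i) s.down).ht
        exact h1.symm.trans (sq' i).w.symm
      obtain ⟨n, hn, -⟩ := exists_of_isPullback (isPullback_pjT hs.1 y X (g i)) _ _ e
      exact ⟨n, hn⟩
    choose x hx using key
    exact ⟨x, hx⟩
  have hGA : AlgSp.IsAlgSpace G := K594.Atlas.isAlgSpace_of_family f hA het hloc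
  refine ⟨hG, hGA, ?_⟩
  have hpm : Rep.pMap (BasedFunctor.comp (toFp.{u + 1} hs.1 y X) (FibCat.fpFst y X)) = prT hs.1 y X :=
    pMap_toFp_fst hs.1 y X
  rw [hpm]
  refine K629.Cover.locP_of_cover F f hA ?_ _ @Etale ?_ ?_ ?_
  · intro p
    obtain ⟨t, ht⟩ := K609.Points.ofScheme_surjective T
      (AlgSp.Points.map (ObjectProperty.homMk (prT hs.1 y X) : G ⟶ (AlgSp.yon S).obj T) p)
    obtain ⟨q, hq, -⟩ := K609.Points.exists_of_isPullback (sq t) p (AlgSp.Points.ofScheme (V t) (v t)) (by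
      rw [K609.Points.map_yon_map_ofScheme, hv, ht])
    exact ⟨t, q, hq⟩
  · intro i
    exact K597.locP_of_repWith (fun _ _ _ e f he hf => by
      have : Etale e := he
      have : Etale f := hf
      exact inferInstanceAs (Etale (e ≫ f))) (het i)
  · intro A B Xf ff gg h1 h2 h3
    refine hE.descend' _ fun b => ?_
    obtain ⟨i, hi⟩ := h2 b
    exact ⟨_, _, h1 i, hi, h3 i⟩
  · intro i
    have h1 : f i ≫ (ObjectProperty.homMk (prT hs.1 y X) : G ⟶ (AlgSp.yon S).obj T) =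
        (ObjectProperty.homMk (prT hs.1 (BasedFunctor.comp (AlgSt.overMap (g i)) y) X) : F i ⟶ (AlgSp.yon S).obj (V i)) ≫
          (AlgSp.yon S).map (g i) := (sq i).w
    change AlgSp.LocP Q (f i ≫ (ObjectProperty.homMk (prT hs.1 y X) : G ⟶ (AlgSp.yon S).obj T))
    rw [h1]
    exact K597.locP_postcomp hE (hA i).hasAtlas (AlgSp.IsAlgSpace.yon_obj _).hasAtlas
      (AlgSp.IsAlgSpace.yon_obj _).hasAtlas (hQ i) (K597.locP_of_repWith (fun _ _ _ e f he hf => by
        have : Etale e := he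
        have : Etale f := hf
        exact inferInstanceAs (Etale (e ≫ f))) ((AlgSp.repWith_yon_map_iff _ _).2 (hg i)))

end K742.Atlas0
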