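import Groth.Agent.CurvSt.K742.SepSect
import Groth.Prelude.Def_ModelsSS
import Groth.Prelude.Def_Curve
import Mathlib.AlgebraicGeometry.ValuativeCriterion
import Mathlib.AlgebraicGeometry.Morphisms.Proper
/-!
K742.PtModel : a smooth proper curve over the fraction field of a discrete valuation ring with semistable reduction and
finitely many distinct rational points has a regular proper nodal model on which the points extend to disjoint sections.
-/

set_option autoImplicit false
universe u

open CategoryTheory CategoryTheory.Limits AlgebraicGeometry IsLocalRing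

namespace K742.PtModel

/-- The statement S2226. -/
def S2226Stmt : Prop := ∀ (R : Type u) [CommRing R] [IsDomain R]
    [IsDiscreteValuationRing R] (C : Scheme.{u}) (f : C ⟶ Spec (CommRingCat.of (FractionRing R)))
    (_ : Curve.IsSmoothProperCurve (FractionRing R) C f) (_ : IsIso f.appTop)
    (_ : Models.HasSemistableReduction R C f),
    ∃ (X : Scheme.{u}) (p : X ⟶ Spec (CommRingCat.of R)),
      Models.IsRegularProperModel R X p C f ∧ Curv2.IsNodalFamily p

/-- The inclusion of the generic point. -/
noncomputable abbrev gen (R K : Type u) [CommRing R] [Field K] [Algebra R K] :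
    Spec (CommRingCat.of K) ⟶ Spec (CommRingCat.of R) := Spec.map (CommRingCat.ofHom (algebraMap R K))

variable {R : Type u} [CommRing R] [IsDomain R]

instance mono_gen (K : Type u) [Field K] [Algebra R K] [IsFractionRing R K] : Mono (gen R K) := by
  have : IsPreimmersion (gen R K) := IsPreimmersion.of_isLocalization (nonZeroDivisors R)
  infer_instance

/-- Extension of points to sections. -/
theorem exists_ext [ValuationRing R] (K : Type u) [Field K] [Algebra R K] [IsFractionRing R K] {X : Scheme.{u}}
    (p : X ⟶ Spec (CommRingCat.of R)) [IsProper p] (a : Spec (CommRingCat.of K) ⟶ X) (ha : a ≫ p = gen R K) :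
    ∃ σ : Spec (CommRingCat.of R) ⟶ X, σ ≫ p = 𝟙 _ ∧ gen R K ≫ σ = a := by
  have h1 : ValuativeCriterion p := by
    have h2 : IsProper p := inferInstance
    rw [IsProper.eq_valuativeCriterion] at h2
    exact h2.1.1.1
  let S : ValuativeCommSq p :=
    { R := R, K := K, i₁ := a, i₂ := 𝟙 _, commSq := ⟨by rw [ha, Category.comp_id]⟩ }
  obtain ⟨l⟩ := h1 S
  exact ⟨l.default.l, l.default.fac_right, l.default.fac_left⟩

/-- Regular proper nodal pointed models. -/
theorem exists_regular (h26 : S2226Stmt.{u}) [IsDiscreteValuationRing R] {C : Scheme.{u}}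
    (f : C ⟶ Spec (CommRingCat.of (FractionRing R))) (hC : Curve.IsSmoothProperCurve (FractionRing R) C f)
    (h0 : IsIso f.appTop) (hss : Models.HasSemistableReduction R C f) {n : ℕ}
    (x : Fin n → (Spec (CommRingCat.of (FractionRing R)) ⟶ C)) (hx : ∀ j, x j ≫ f = 𝟙 _)
    (hinj : Function.Injective x) :
    ∃ (X : Scheme.{u}) (p : X ⟶ Spec (CommRingCat.of R)) (σ : Fin n → (Spec (CommRingCat.of R) ⟶ X)) (i : C ⟶ X),
      IsProper p ∧ Curv2.IsNodalFamily p ∧ (∀ z : X, IsRegularLocalRing (X.presheaf.stalk z)) ∧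
      IsPullback i f p (gen R (FractionRing R)) ∧ (∀ j, σ j ≫ p = 𝟙 _) ∧
      (∀ j, x j ≫ i = gen R (FractionRing R) ≫ σ j) ∧
      ∀ j k, j ≠ k → σ j (closedPoint R) ≠ σ k (closedPoint R) := by
  obtain ⟨X, p, ⟨⟨hfl, hft, hqc, g, hg⟩, hp, hr⟩, hn⟩ := h26 R C f hC h0 hss
  have hgm : Mono g := MorphismProperty.of_isPullback (P := MorphismProperty.monomorphisms _) hg.flip
    (mono_gen (FractionRing R))
  choose σ hσ1 hσ2 using fun j => exists_ext (FractionRing R) p (x j ≫ g) (by
    rw [Category.assoc, hg.w, ← Category.assoc, hx, Category.id_comp])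
  have hσi : Function.Injective σ := by
    intro j k h
    apply hinj
    rw [← cancel_mono g, ← hσ2, ← hσ2, h]
  obtain ⟨X', b, σ', h1, h2, h3, h4, h5, h6⟩ :=
    SepSect.exists_separated (SepSect.tot σ) p hn hr σ hσ1 hσi le_rfl
  have hcl : closedPoint R ∉ Set.range (gen R (FractionRing R)) := by
    rintro ⟨z, hz⟩
    have h7 : ((gen R (FractionRing R)) z).asIdeal = maximalIdeal R := congrArg PrimeSpectrum.asIdeal hz
    have h8 : ((gen R (FractionRing R)) z).asIdeal = ⊥ := by
      have h9 : z = (⊥ : PrimeSpectrum (FractionRing R)) := Subsingleton.elim _ _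
      rw [h9]
      change Ideal.comap (algebraMap R (FractionRing R)) ⊥ = ⊥
      exact Ideal.comap_bot_of_injective _ (IsFractionRing.injective R (FractionRing R))
    exact IsDiscreteValuationRing.not_a_field R (h7.symm.trans h8)
  obtain ⟨i, hi, hib⟩ := h4 _ _ (gen R (FractionRing R)) g f hcl hg
  have hs : ∀ j, σ' j ≫ b ≫ p = 𝟙 _ := fun j => by rw [← Category.assoc, h5, hσ1]
  refine ⟨X', b ≫ p, σ', i, inferInstance, h2, h3, hi, hs, fun j => ?_, h6⟩
  let y := hi.lift (gen R (FractionRing R) ≫ σ' j) (𝟙 _) (by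
    rw [Category.assoc, hs, Category.comp_id, Category.id_comp])
  have hy1 : y ≫ i = gen R (FractionRing R) ≫ σ' j := hi.lift_fst _ _ _
  have hy : y = x j := by
    rw [← cancel_mono g, ← hib, reassoc_of% hy1, h5, hσ2, hib]
  rw [← hy, hy1]

end K742.PtModel
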