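import Groth.Agent.CurvSt.K742.Psr
import Groth.Agent.S3333
import Groth.Agent.S2226
import Groth.Agent.Models.H74.CurveBC
import Groth.Agent.Models.K380.ModelCurve

/-!
# Stable reduction of pointed curves in characteristic zero, from the contraction theorem (helper742)
-/

set_option autoImplicit false

universe u

open CategoryTheory CategoryTheory.Limits AlgebraicGeometry CurvSt

namespace K742.Row34

open K742.PtModel

attribute [-instance] CategoryTheory.catToReflQuiver

/-- Stable reduction of pointed curves over the fraction field in its canonical form. -/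
theorem main (h01 : K742.Psr.S17201Stmt.{u}) (R : Type u) [CommRing R] [IsDomain R] [IsDiscreteValuationRing R]
    (K : Type u) [Field K] [Algebra R K] [IsFractionRing R K]
    (X : Scheme.{u}) [X.Over (Spec (CommRingCat.of K))] [Smooth (X ↘ Spec (CommRingCat.of K))]
    [IsProper (X ↘ Spec (CommRingCat.of K))]
    (hdim : topologicalKrullDim X = 1) (h0 : Module.finrank K (Coh.HH X (Coh.structureModule X) 0) = 1) (g : ℕ)
    (hg : Curv2.genus K X = g)
    (n : ℕ) (x : Fin n → (Spec (CommRingCat.of K) ⟶ X)) (hx : ∀ j, x j ≫ (X ↘ Spec (CommRingCat.of K)) = 𝟙 _)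
    (hinj : Function.Injective x) (h : 3 ≤ 2 * g + n) :
    ∃ (R' K' : Type u) (_ : CommRing R') (_ : IsDomain R') (_ : IsDiscreteValuationRing R') (_ : Field K')
      (_ : Algebra R R') (_ : Algebra R' K') (_ : IsFractionRing R' K') (_ : Algebra K K'),
      IsLocalHom (algebraMap R R') ∧ Function.Injective (algebraMap R R') ∧
      (algebraMap R' K').comp (algebraMap R R') = (algebraMap K K').comp (algebraMap R K) ∧
      ∃ (C' : Scheme.{u}) (f' : C' ⟶ Spec (CommRingCat.of R')) (σ : Fin n → (Spec (CommRingCat.of R') ⟶ C'))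
        (hσ : ∀ j, σ j ≫ f' = 𝟙 _) (i : pullback (X ↘ Spec (CommRingCat.of K)) (Spec.map (CommRingCat.ofHom (algebraMap K K'))) ⟶ C'),
        CurvSt.IsStableFam f' σ hσ g ∧
        IsPullback i (pullback.snd (X ↘ Spec (CommRingCat.of K)) (Spec.map (CommRingCat.ofHom (algebraMap K K')))) f' (Spec.map (CommRingCat.ofHom (algebraMap R' K'))) ∧
        ∀ j, ∃ y : Spec (CommRingCat.of K') ⟶ pullback (X ↘ Spec (CommRingCat.of K)) (Spec.map (CommRingCat.ofHom (algebraMap K K'))),
          y ≫ pullback.fst (X ↘ Spec (CommRingCat.of K)) (Spec.map (CommRingCat.ofHom (algebraMap K K'))) = (Spec.map (CommRingCat.ofHom (algebraMap K K'))) ≫ x j ∧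
            y ≫ i = Spec.map (CommRingCat.ofHom (algebraMap R' K')) ≫ σ j := by
  set f : X ⟶ Spec (CommRingCat.of K) := X ↘ Spec (CommRingCat.of K) with hf
  have hiso : IsIso f.appTop := K380.ModelCurve.isIso_appTop f h0
  have hint : IsIntegral X := K380.ModelCurve.isIntegral f hiso
  let e : FractionRing R ≃ₐ[R] K := FractionRing.algEquiv R K
  let ei : K →+* FractionRing R := (e.symm : K ≃ₐ[R] FractionRing R).toRingEquiv
  let E : Spec (CommRingCat.of K) ≅ Spec (CommRingCat.of (FractionRing R)) :=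
    Scheme.Spec.mapIso (RingEquiv.toCommRingCatIso e.toRingEquiv).op
  have hEinv : E.inv = Spec.map (CommRingCat.ofHom ei) := rfl
  let f₀ : X ⟶ Spec (CommRingCat.of (FractionRing R)) := f ≫ E.hom
  have hei : IsIso (Spec.map (CommRingCat.ofHom ei)) := by rw [← hEinv]; infer_instance
  have sq0 : IsPullback (𝟙 X) f₀ f (Spec.map (CommRingCat.ofHom ei)) :=
    IsPullback.of_horiz_isIso ⟨by rw [← hEinv]; simp [f₀]⟩
  have hC₀ : Curve.IsSmoothProperCurve (FractionRing R) X f₀ :=
    ⟨inferInstance, inferInstance, hint, hdim⟩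
  have hH₀ : IsIso f₀.appTop := by
    have h1 : f₀.appTop = E.hom.appTop ≫ f.appTop := Scheme.Hom.comp_appTop _ _
    have h2 : IsIso E.hom.appTop := inferInstanceAs (IsIso (Scheme.Γ.map E.hom.op))
    rw [h1]
    exact IsIso.comp_isIso
  have hgen₀ : Models.curveGenus (FractionRing R) X f₀ = g := by
    let _ : Algebra K (FractionRing R) := ei.toAlgebra
    exact (Groth.Agent.Models.H74.CurveBC.curveGenus_eq f sq0).trans hg
  obtain ⟨R', i1, i2, i3, φ, ψ, ⟨hφi, hφl⟩, hc, hsepf, hss⟩ := Groth.Agent.S3333.result R X f₀ hC₀ hH₀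
  let K' := FractionRing R'
  let a1 : Algebra (FractionRing R) K' := ψ.toAlgebra
  have hfd : FiniteDimensional (FractionRing R) K' := hsepf.1
  have hpb : IsPullback (pullback.fst f₀ (Spec.map (CommRingCat.ofHom ψ)))
      (pullback.snd f₀ (Spec.map (CommRingCat.ofHom ψ))) f₀
      (Spec.map (CommRingCat.ofHom (algebraMap (FractionRing R) K'))) :=
    IsPullback.of_hasPullback _ _
  have hC' := Groth.Agent.Models.H74.CurveBC.isSmoothProperCurve f₀ hpb hC₀
  have hH' := Groth.Agent.Models.H74.CurveBC.isIso_appTop f₀ hpb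
  have hgen' := (Groth.Agent.Models.H74.CurveBC.curveGenus_eq f₀ hpb).trans hgen₀
  let α : K →+* K' := ψ.comp ei
  let a2 : Algebra K K' := α.toAlgebra
  let a3 : Algebra R R' := φ.toAlgebra
  -- the two base changes agree
  have hα : Spec.map (CommRingCat.ofHom (algebraMap K K')) =
      Spec.map (CommRingCat.ofHom ψ) ≫ Spec.map (CommRingCat.ofHom ei) := by
    rw [← Spec.map_comp, ← CommRingCat.ofHom_comp]
  have sq1 : IsPullback (pullback.fst f₀ (Spec.map (CommRingCat.ofHom ψ)))
      (pullback.snd f₀ (Spec.map (CommRingCat.ofHom ψ))) f (Spec.map (CommRingCat.ofHom (algebraMap K K'))) := by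
    have h1 := hpb.paste_horiz sq0
    rw [Category.comp_id] at h1
    rw [hα]
    exact h1
  let θ : pullback f (Spec.map (CommRingCat.ofHom (algebraMap K K'))) ≅
      pullback f₀ (Spec.map (CommRingCat.ofHom ψ)) := sq1.isoPullback.symm
  have hθ1 : θ.hom ≫ pullback.fst f₀ (Spec.map (CommRingCat.ofHom ψ)) = pullback.fst f _ := sq1.isoPullback_inv_fst
  have hθ2 : θ.hom ≫ pullback.snd f₀ (Spec.map (CommRingCat.ofHom ψ)) = pullback.snd f _ := sq1.isoPullback_inv_snd
  let y : Fin n → (Spec (CommRingCat.of K') ⟶ pullback f (Spec.map (CommRingCat.ofHom (algebraMap K K')))) := fun j =>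
    pullback.lift (Spec.map (CommRingCat.ofHom (algebraMap K K')) ≫ x j) (𝟙 _)
      (by rw [Category.assoc, hx, Category.comp_id, Category.id_comp])
  have hy1 : ∀ j, y j ≫ pullback.fst f _ = Spec.map (CommRingCat.ofHom (algebraMap K K')) ≫ x j := fun j =>
    pullback.lift_fst _ _ _
  have hy2 : ∀ j, y j ≫ pullback.snd f _ = 𝟙 _ := fun j => pullback.lift_snd _ _ _
  let z : Fin n → (Spec (CommRingCat.of K') ⟶ pullback f₀ (Spec.map (CommRingCat.ofHom ψ))) := fun j => y j ≫ θ.hom
  have hz : ∀ j, z j ≫ pullback.snd f₀ (Spec.map (CommRingCat.ofHom ψ)) = 𝟙 _ := fun j => by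
    change (y j ≫ θ.hom) ≫ _ = _
    rw [Category.assoc, hθ2, hy2]
  have hzinj : Function.Injective z := by
    intro j k hjk
    apply hinj
    have h1 : y j = y k := (cancel_mono θ.hom).1 hjk
    have h2 : Spec.map (CommRingCat.ofHom (algebraMap K K')) ≫ x j = Spec.map (CommRingCat.ofHom (algebraMap K K')) ≫ x k := by
      rw [← hy1, ← hy1, h1]
    have hd : IsDominant (Spec.map (CommRingCat.ofHom (algebraMap K K'))) := inferInstance
    exact ext_of_isDominant_of_isSeparated f (ι := Spec.map (CommRingCat.ofHom (algebraMap K K')))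
      ((hx j).trans (hx k).symm) h2
  obtain ⟨C', f', σ, hσ, i, hst, hsq, hpt⟩ := K742.Psr.exists_stable Groth.Agent.S2226.result h01
    (pullback.snd f₀ (Spec.map (CommRingCat.ofHom ψ))) hC' hH' hss hgen' z hz hzinj h
  refine ⟨R', K', i1, i2, i3, inferInstance, a3, inferInstance, inferInstance, a2, hφl, hφi, ?_, C', f', σ, hσ,
    θ.hom ≫ i, hst, ?_, fun j => ⟨y j, hy1 j, ?_⟩⟩
  · ext r
    have h1 := congrArg (fun m : R →+* K' => m r) hc
    change algebraMap R' K' (φ r) = ψ (e.symm (algebraMap R K r))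
    have h2 : e.symm (algebraMap R K r) = algebraMap R (FractionRing R) r := e.symm.commutes r
    rw [h2]
    exact h1.symm
  · exact IsPullback.of_iso hsq θ.symm (Iso.refl _) (Iso.refl _) (Iso.refl _) (by simp) (by simp [← hθ2]) (by simp)
      (by simp)
  · rw [← hpt j]
    change y j ≫ θ.hom ≫ i = (y j ≫ θ.hom) ≫ i
    rw [Category.assoc]

end K742.Row34
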