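import Groth.Agent.AlgSt.K738.Sep2
import Groth.Agent.CurvSt.K169.SchD
import Groth.Agent.S10259
import Groth.Agent.AlgSt.K736.QC
import Groth.Agent.AlgSt.K734.Rep
import Groth.Agent.AlgSp.K647.Proper

/-!
# Separatedness from uniqueness of limits on a dense open set: the criterion for schemes and the sheaves of isomorphisms (helper742)
-/

set_option autoImplicit false
set_option backward.isDefEq.respectTransparency false
set_option backward.isDefEq.respectTransparency.types false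

universe v' w' v w u

open CategoryTheory CategoryTheory.Limits AlgebraicGeometry Opposite AlgSp

namespace K742.SepDense

open K169.SchD

section Sch

/-- Base change of the lifting property. -/
theorem LiftOn.pullback {Z S Z' S' : Scheme.{u}} {f : Z ⟶ S} {V : Set Z} (H : LiftOn f V) {g' : Z' ⟶ Z} {f' : Z' ⟶ S'}
    {g : S' ⟶ S} (hp : IsPullback g' f' f g) : LiftOn f' (g' ⁻¹' V) := by
  intro R _ _ _ α κ hκ hc
  obtain ⟨R', i1, i2, i3, φ, i4, ψ, hψ, β, hβ1, hβ2⟩ := H R (α ≫ g) (κ ≫ g') (by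
    rintro _ ⟨t, rfl⟩
    rw [Scheme.Hom.comp_apply]
    exact hκ ⟨t, rfl⟩) (by rw [Category.assoc, hp.w, reassoc_of% hc])
  refine ⟨R', i1, i2, i3, φ, i4, ψ, hψ, hp.lift β (Spec.map (CommRingCat.ofHom φ) ≫ α) (by rw [hβ1, Category.assoc]),
    hp.lift_snd _ _ _, ?_⟩
  apply hp.hom_ext
  · rw [Category.assoc, hp.lift_fst, hβ2, Category.assoc]
  · rw [Category.assoc, hp.lift_snd, Category.assoc, hc, ← Category.assoc, ← Category.assoc]
    congr 1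
    rw [← Spec.map_comp, ← Spec.map_comp, ← CommRingCat.ofHom_comp, ← CommRingCat.ofHom_comp, hψ]

/-- **The valuative criterion on a dense open subset.** -/
theorem isProper_of_liftOn {Z S : Scheme.{u}} [IsLocallyNoetherian S] (f : Z ⟶ S) [IsSeparated f] [LocallyOfFiniteType f]
    [QuasiCompact f] (V : Z.Opens) (hd : Dense (V : Set Z)) (H : LiftOn f (V : Set Z)) : IsProper f := by
  have huc : UniversallyClosed f := by
    refine (IsZariskiLocalAtTarget.iff_of_iSup_eq_top (P := @UniversallyClosed)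
      (fun U : S.affineOpens => (U : S.Opens)) (iSup_affineOpens_eq_top S)).2 fun U => ?_
    have hN : IsNoetherian ((U : S.Opens) : Scheme.{u}) := by
      have h1 : IsLocallyNoetherian ((U : S.Opens) : Scheme.{u}) := isLocallyNoetherian_of_isOpenImmersion (U : S.Opens).ι
      have h2 : IsAffine ((U : S.Opens) : Scheme.{u}) := U.2
      have h3 : CompactSpace ((U : S.Opens) : Scheme.{u}) := inferInstance
      exact { }
    have hp := isPullback_morphismRestrict f (U : S.Opens)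
    have h1 := LiftOn.pullback H hp.flip
    have hq : QuasiCompact (f ∣_ (U : S.Opens)) := inferInstance
    have hl : LocallyOfFiniteType (f ∣_ (U : S.Opens)) := inferInstance
    have hs : IsSeparated (f ∣_ (U : S.Opens)) := inferInstance
    obtain ⟨Z₁, i, hi, hip, hcl⟩ := exists_proper (f ∣_ (U : S.Opens)) ((f ⁻¹ᵁ (U : S.Opens)).ι ⁻¹ᵁ V) h1
    have hd' : Dense (((f ⁻¹ᵁ (U : S.Opens)).ι ⁻¹ᵁ V : (f ⁻¹ᵁ (U : S.Opens)).toScheme.Opens) : Set (f ⁻¹ᵁ (U : S.Opens)).toScheme) :=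
      hd.preimage (f ⁻¹ᵁ (U : S.Opens)).ι.isOpenEmbedding.isOpenMap
    have hsurj : Surjective i := by
      refine ⟨fun z => ?_⟩
      have : z ∈ closure (((f ⁻¹ᵁ (U : S.Opens)).ι ⁻¹ᵁ V : (f ⁻¹ᵁ (U : S.Opens)).toScheme.Opens) : Set (f ⁻¹ᵁ (U : S.Opens)).toScheme) :=
        hd' z
      exact hcl this
    exact UniversallyClosed.of_comp_surjective i _
  exact { }

end Sch

section Cat

open K604.DvrClosed K863.VIsom K739.Isom K739.Diag K863.Arr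

variable {S : Scheme.{u}}

/-- Uniqueness of limits over discrete valuation rings with algebraically closed residue field for objects whose generic
point lies in `D`. -/
def UniqLimOn (𝒳 : BasedCategory.{v, w} (Over S)) (D : Set (AlgSt.Points 𝒳)) : Prop :=
  ∀ (R : Type u) [CommRing R] [IsDomain R] [IsDiscreteValuationRing R], IsAlgClosed (IsLocalRing.ResidueField R) →
    ∀ (L : Type u) [Field L] [Algebra R L] [IsFractionRing R L] (a : Spec (CommRingCat.of R) ⟶ S)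
      (A₁ A₂ B : 𝒳.obj) (hB : 𝒳.p.obj B = Over.mk (Spec.map (CommRingCat.ofHom (algebraMap R L)) ≫ a))
      (r₁ : B ⟶ A₁) (r₂ : B ⟶ A₂), AlgSt.Points.mk ⟨L, _, B, hB⟩ ∈ D →
      𝒳.p.IsHomLift (jj R L a) r₁ → 𝒳.p.IsHomLift (jj R L a) r₂ →
        ∃ α : A₁ ⟶ A₂, 𝒳.p.IsHomLift (𝟙 (Over.mk a)) α ∧ r₁ ≫ α = r₂

variable {𝒳 : AlgSt.Cat S}

theorem secLiftOn (h𝒳 : FibCat.IsFibGrpd 𝒳.p) (h𝒮 : FibCat.IsFibGrpd (FibCat.selfOver (Over S)).p)
    {D : Set (AlgSt.Points 𝒳)} (hu : UniqLimOn 𝒳 D)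
    {U : Over S} (x₁ x₂ : FibCat.overCat U ⥤ᵇ 𝒳)
    (φ : BasedFunctor.comp x₁ (FibCat.toSelf 𝒳) ≅ BasedFunctor.comp x₂ (FibCat.toSelf 𝒳))
    (R : Type u) [CommRing R] [IsDomain R] [IsDiscreteValuationRing R] (hR : IsAlgClosed (IsLocalRing.ResidueField R))
    (L : Type u) [Field L] [Algebra R L] [IsFractionRing R L] (a : Spec (CommRingCat.of R) ⟶ S)
    (v : Over.mk a ⟶ U)
    (hD : AlgSt.Points.mk ⟨L, _, x₂.obj (pt (jj R L a ≫ v)), x₂.w_obj _⟩ ∈ D)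
    (s : (psh (FibCat.toSelf 𝒳) x₁ x₂ φ h𝒳 h𝒮).obj
      (op (Over.mk (Spec.map (CommRingCat.ofHom (algebraMap R L)) ≫ a))))
    (e : (toBase (FibCat.toSelf 𝒳) x₁ x₂ φ h𝒳 h𝒮).app _ s = (AlgSp.pyon S |>.obj U).map (jj R L a).op ⟨v⟩) :
    ∃ l : (psh (FibCat.toSelf 𝒳) x₁ x₂ φ h𝒳 h𝒮).obj (op (Over.mk a)),
      (psh (FibCat.toSelf 𝒳) x₁ x₂ φ h𝒳 h𝒮).map (jj R L a).op l = s ∧
      (toBase (FibCat.toSelf 𝒳) x₁ x₂ φ h𝒳 h𝒮).app _ l = ⟨v⟩ := by
  obtain ⟨w, ψ, hl, hc⟩ := s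
  have e1 : w = jj R L a ≫ v := congrArg ULift.down e
  subst e1
  have hr₁ : 𝒳.p.IsHomLift (jj R L a) (x₁.map (arr (jj R L a) rfl : pt (jj R L a ≫ v) ⟶ pt v)) :=
    map_lift x₁ (IsHomLift.map (FibCat.overCat U).p (arr (jj R L a) rfl : pt (jj R L a ≫ v) ⟶ pt v))
  have hr₂ : 𝒳.p.IsHomLift (jj R L a) (x₂.map (arr (jj R L a) rfl : pt (jj R L a ≫ v) ⟶ pt v)) :=
    map_lift x₂ (IsHomLift.map (FibCat.overCat U).p (arr (jj R L a) rfl : pt (jj R L a ≫ v) ⟶ pt v))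
  have hD' : AlgSt.Points.mk ⟨L, _, x₁.obj (pt (jj R L a ≫ v)), x₁.w_obj _⟩ ∈ D := by
    have h1 : (AlgSt.Points.mk ⟨L, _, x₁.obj (pt (jj R L a ≫ v)), x₁.w_obj _⟩ : AlgSt.Points 𝒳) =
        AlgSt.Points.mk ⟨L, _, x₂.obj (pt (jj R L a ≫ v)), x₂.w_obj _⟩ :=
      AlgSt.Points.sound ⟨⟨L, _, x₁.obj (pt (jj R L a ≫ v)), x₁.w_obj _⟩, 𝟙 _, ψ, trivial⟩
    rw [h1]
    exact hD
  obtain ⟨α, hα, hα'⟩ := hu R hR L a (x₁.obj (pt v)) (x₂.obj (pt v)) (x₁.obj (pt (jj R L a ≫ v))) (x₁.w_obj _)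
    (x₁.map (arr (jj R L a) rfl : pt (jj R L a ≫ v) ⟶ pt v))
    (ψ ≫ x₂.map (arr (jj R L a) rfl : pt (jj R L a ≫ v) ⟶ pt v)) hD' hr₁ (lift_id_comp hl hr₂)
  have hγ : (FibCat.selfOver (Over S)).p.IsHomLift (𝟙 (Over.mk a)) (φ.hom.toNatTrans.app (pt v)) := φ.hom.isHomLift' (pt v)
  have hfα' : (FibCat.selfOver (Over S)).p.IsHomLift (𝟙 (Over.mk a)) ((FibCat.toSelf 𝒳).map α) := map_lift _ hα
  have he : (FibCat.selfOver (Over S)).p.obj ((FibCat.toSelf 𝒳).obj (x₁.obj (pt v))) =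
      (FibCat.selfOver (Over S)).p.obj ((FibCat.toSelf 𝒳).obj (x₂.obj (pt v))) :=
    (x₁.w_obj (pt v)).trans (x₂.w_obj (pt v)).symm
  have hfα : (FibCat.toSelf 𝒳).map α = φ.hom.toNatTrans.app (pt v) :=
    (K738.Equiv.map_eq_eqToHom (p := (FibCat.selfOver (Over S)).p) _ hfα' he).trans
      (K738.Equiv.map_eq_eqToHom (p := (FibCat.selfOver (Over S)).p) _ hγ he).symm
  refine ⟨(⟨v, α, hα, hfα⟩ : Sec (FibCat.toSelf 𝒳) x₁ x₂ φ _), ?_, rfl⟩
  exact (K739.Isom.map_eq_iff h𝒳 h𝒮 (jj R L a) _ _).2 ⟨rfl, hα'⟩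

/-- The lifting property of a scheme representing a sheaf of isomorphisms. -/
theorem liftOn_of_uniqLimOn (h𝒳 : FibCat.IsFibGrpd 𝒳.p) (h𝒮 : FibCat.IsFibGrpd (FibCat.selfOver (Over S)).p)
    {D : Set (AlgSt.Points 𝒳)} (hu : UniqLimOn 𝒳 D)
    {U Z : Over S} (x₁ x₂ : FibCat.overCat U ⥤ᵇ 𝒳)
    (φ : BasedFunctor.comp x₁ (FibCat.toSelf 𝒳) ≅ BasedFunctor.comp x₂ (FibCat.toSelf 𝒳))
    (β : (AlgSp.pyon S).obj Z ≅ psh (FibCat.toSelf 𝒳) x₁ x₂ φ h𝒳 h𝒮) (f' : Z ⟶ U)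
    (hf' : (AlgSp.pyon S).map f' = β.hom ≫ toBase (FibCat.toSelf 𝒳) x₁ x₂ φ h𝒳 h𝒮) (V : Set Z.left)
    (hV : ∀ (K : Type u) [Field K] (s : Spec (CommRingCat.of K) ⟶ S) (κ : (Over.mk s : Over S) ⟶ Z),
      Set.range κ.left ⊆ V → AlgSt.Points.mk ⟨K, s, x₂.obj (pt (κ ≫ f')), x₂.w_obj _⟩ ∈ D) :
    LiftOn f'.left V := by
  intro R _ _ _ α κ hκV hκ
  obtain ⟨B, i1, i2, i3, i4, -, hB, hloc, hflat⟩ := Groth.Agent.Sga3.H826.DvrExt.exists_complete R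
  obtain ⟨φ', ψ', hloc', hB', hc⟩ := K738.Sep.exists_maps R (FractionRing R) B (FractionRing B) hB hloc hflat
  let a' : Spec (CommRingCat.of B) ⟶ S := Spec.map (CommRingCat.ofHom φ') ≫ α ≫ U.hom
  let v : (Over.mk a' : Over S) ⟶ U := Over.homMk (Spec.map (CommRingCat.ofHom φ') ≫ α) (by simp [a'])
  have hgen : Spec.map (CommRingCat.ofHom ψ') ≫ gen R = gen B ≫ Spec.map (CommRingCat.ofHom φ') := by
    rw [← Spec.map_comp, ← Spec.map_comp, ← CommRingCat.ofHom_comp, ← CommRingCat.ofHom_comp, hc]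
  let κ' : (Over.mk (gen B ≫ a') : Over S) ⟶ Z := Over.homMk (Spec.map (CommRingCat.ofHom ψ') ≫ κ) (by
    have h1 : κ ≫ Z.hom = gen R ≫ α ≫ U.hom := by
      rw [← Over.w f', reassoc_of% hκ]
    change (Spec.map (CommRingCat.ofHom ψ') ≫ κ) ≫ Z.hom = gen B ≫ a'
    rw [Category.assoc, h1, reassoc_of% hgen])
  have hκ' : κ' ≫ f' = jj B (FractionRing B) a' ≫ v := by
    apply Over.OverMorphism.ext
    change (Spec.map (CommRingCat.ofHom ψ') ≫ κ) ≫ f'.left = gen B ≫ Spec.map (CommRingCat.ofHom φ') ≫ α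
    rw [Category.assoc, hκ, reassoc_of% hgen]
  have happ : ∀ {T : Over S} (t : T ⟶ Z), (toBase (FibCat.toSelf 𝒳) x₁ x₂ φ h𝒳 h𝒮).app (op T) (β.hom.app (op T) ⟨t⟩) =
      ⟨t ≫ f'⟩ := fun {T} t => (congrArg (fun m => m.app (op T) (⟨t⟩ : ((AlgSp.pyon S).obj Z).obj (op T))) hf').symm
  obtain ⟨l, hl, hl'⟩ := secLiftOn h𝒳 h𝒮 hu x₁ x₂ φ B hB (FractionRing B) a' v (by
    have h1 := hV (FractionRing B) (gen B ≫ a') κ' (by
      rintro _ ⟨t, rfl⟩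
      change (Spec.map (CommRingCat.ofHom ψ') ≫ κ) t ∈ V
      rw [Scheme.Hom.comp_apply]
      exact hκV ⟨_, rfl⟩)
    rw [hκ'] at h1
    exact h1) (β.hom.app (op _) ⟨κ'⟩) (by
    rw [happ, hκ']
    rfl)
  let ζ : (Over.mk a' : Over S) ⟶ Z := (β.inv.app (op _) l).down
  have hζ : β.hom.app (op (Over.mk a' : Over S)) ⟨ζ⟩ = l :=
    congrArg (fun m => m.app (op (Over.mk a' : Over S)) l) β.inv_hom_id
  have hζ1 : ζ ≫ f' = v := by
    have h1 := happ ζ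
    rw [hζ, hl'] at h1
    exact (congrArg ULift.down h1).symm
  have hζ2 : jj B (FractionRing B) a' ≫ ζ = κ' := by
    have h1 : β.inv.app (op _) ((psh (FibCat.toSelf 𝒳) x₁ x₂ φ h𝒳 h𝒮).map (jj B (FractionRing B) a').op l) =
        ((AlgSp.pyon S).obj Z).map (jj B (FractionRing B) a').op (β.inv.app (op _) l) :=
      congrArg (fun m => m l) (β.inv.naturality (jj B (FractionRing B) a').op)
    rw [hl] at h1
    have h2 : β.inv.app (op (Over.mk (gen B ≫ a') : Over S)) (β.hom.app (op (Over.mk (gen B ≫ a') : Over S)) ⟨κ'⟩) = ⟨κ'⟩ :=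
      congrArg (fun m => m.app (op (Over.mk (gen B ≫ a') : Over S)) (⟨κ'⟩ : ((AlgSp.pyon S).obj Z).obj _)) β.hom_inv_id
    exact (congrArg ULift.down (h2.symm.trans h1)).symm
  refine ⟨B, i1, i2, i3, φ', hloc', ψ', hc.symm, ζ.left, congrArg CommaMorphism.left hζ1, congrArg CommaMorphism.left hζ2⟩

end Cat

end K742.SepDense
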