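import Groth.Agent.CurvSt.K742.SepD1
import Groth.Agent.AlgSt.K738.YonProps
import Groth.Agent.AlgSt.K735.ClosedLim

/-!
# Separatedness of stacks from uniqueness of limits on a dense open set (helper742)
-/

set_option autoImplicit false
set_option backward.isDefEq.respectTransparency false
set_option backward.isDefEq.respectTransparency.types false

universe v' w' v w u

open CategoryTheory CategoryTheory.Limits AlgebraicGeometry Opposite AlgSp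

namespace K742.SepDense

open K169.SchD K604.DvrClosed K863.VIsom K739.Isom K739.Diag K863.Arr

variable {S : Scheme.{u}} {𝒳 : AlgSt.Cat S}

open K735.Fib K735.Fp K735.Pts K735.PtsSp K735.Top in
/-- The field-valued points of a slice. -/
theorem mk_overCat {Z : Over S} {K : Type u} [Field K] (s : Spec (CommRingCat.of K) ⟶ S)
    (κ : (Over.mk s : Over S) ⟶ Z) (t : ↥(Over.mk s : Over S).left) :
    AlgSt.Points.mk (𝒳 := FibCat.overCat Z) ⟨K, s, Over.mk κ, rfl⟩ =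
      AlgSt.Points.ofChart (BasedFunctor.id (FibCat.overCat Z)) (κ.left t) := by
  rw [← K735.ClosedLim.map_overMap, map_ofChart]
  symm
  refine mk_eq_of_hom (𝒳 := FibCat.overCat Z) ?_
  exact Over.homMk (Over.homMk ((Over.mk s).left.fromSpecResidueField t) rfl) rfl

/-- The base change of the diagonal as a scheme. -/
noncomputable def fpChart {U Z : Over S} (x₁ x₂ : FibCat.overCat U ⥤ᵇ 𝒳)
    (φ : BasedFunctor.comp x₁ (FibCat.toSelf 𝒳) ≅ BasedFunctor.comp x₂ (FibCat.toSelf 𝒳))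
    (h𝒳 : FibCat.IsFibGrpd 𝒳.p) (h𝒮 : FibCat.IsFibGrpd (FibCat.selfOver (Over S)).p)
    (β : (AlgSp.pyon S).obj Z ≅ psh (FibCat.toSelf 𝒳) x₁ x₂ φ h𝒳 h𝒮) :
    FibCat.overCat Z ⥤ᵇ FibCat.fp (FibCat.fpLift x₁ x₂ φ) (FibCat.diag (FibCat.toSelf 𝒳)) :=
  BasedFunctor.comp (AlgSt.ofOverCat Z)
    (BasedFunctor.comp (Stk.ofPshMap β.hom) (toFp (FibCat.toSelf 𝒳) x₁ x₂ φ h𝒳 h𝒮))

theorem isEquivOver_fpChart {U Z : Over S} (x₁ x₂ : FibCat.overCat U ⥤ᵇ 𝒳)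
    (φ : BasedFunctor.comp x₁ (FibCat.toSelf 𝒳) ≅ BasedFunctor.comp x₂ (FibCat.toSelf 𝒳))
    (h𝒳 : FibCat.IsFibGrpd 𝒳.p) (h𝒮 : FibCat.IsFibGrpd (FibCat.selfOver (Over S)).p)
    (β : (AlgSp.pyon S).obj Z ≅ psh (FibCat.toSelf 𝒳) x₁ x₂ φ h𝒳 h𝒮) :
    FibCat.IsEquivOver (fpChart x₁ x₂ φ h𝒳 h𝒮 β) :=
  K739.Psh.isEquivOver_comp (K735.Rep.isEquivOver_ofOverCat Z)
    (K739.Psh.isEquivOver_comp (K739.Psh.isEquivOver_ofPshMap β) (isEquivOver_toFp _ _ _ _ h𝒳 h𝒮))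

/-- The composite of the chart with the second projection. -/
noncomputable def sndChart {U Z : Over S} (x₁ x₂ : FibCat.overCat U ⥤ᵇ 𝒳)
    (φ : BasedFunctor.comp x₁ (FibCat.toSelf 𝒳) ≅ BasedFunctor.comp x₂ (FibCat.toSelf 𝒳))
    (h𝒳 : FibCat.IsFibGrpd 𝒳.p) (h𝒮 : FibCat.IsFibGrpd (FibCat.selfOver (Over S)).p)
    (β : (AlgSp.pyon S).obj Z ≅ psh (FibCat.toSelf 𝒳) x₁ x₂ φ h𝒳 h𝒮) : FibCat.overCat Z ⥤ᵇ 𝒳 :=
  BasedFunctor.comp (fpChart x₁ x₂ φ h𝒳 h𝒮 β) (FibCat.fpSnd (FibCat.fpLift x₁ x₂ φ) (FibCat.diag (FibCat.toSelf 𝒳)))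

/-- Over a locally Noetherian chart the sheaves of isomorphisms are proper. -/
theorem repPsh_proper (h𝒳 : AlgSt.IsAlgStack Scheme.fppfPrecoverage 𝒳)
    (h𝒮 : FibCat.IsFibGrpd (FibCat.selfOver (Over S)).p)
    (hsep : AlgSt.RepByAlgSpWith AlgSp.IsSeparatedMor (FibCat.diag (FibCat.toSelf 𝒳)))
    (hqc : AlgSt.RepByAlgSpWith AlgSp.IsQuasiCompactMor (FibCat.diag (FibCat.toSelf 𝒳)))
    (hlqf : AlgSt.RepByAlgSpWith (AlgSp.LocP (@LocallyQuasiFinite ⊓ @LocallyOfFiniteType))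
      (FibCat.diag (FibCat.toSelf 𝒳))) {D : Set (AlgSt.Points 𝒳)} (hDo : IsOpen D) (hDd : Dense D)
    (hu : UniqLimOn 𝒳 D) {W : Over S} (hW : IsLocallyNoetherian W.left) (x₁ x₂ : FibCat.overCat W ⥤ᵇ 𝒳)
    (φ : BasedFunctor.comp x₁ (FibCat.toSelf 𝒳) ≅ BasedFunctor.comp x₂ (FibCat.toSelf 𝒳))
    (hω : AlgSt.RepByAlgSpWith (AlgSp.LocP @Smooth) (FibCat.fpLift x₁ x₂ φ)) :
    K739.Rep.RepPsh AlgSp.IsProperMor (K739.Isom.toBase (FibCat.toSelf 𝒳) x₁ x₂ φ h𝒳.isStack.1 h𝒮) := by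
  have hX := h𝒳.isStack.1
  obtain ⟨hsh, hA, h1⟩ := (K739.Rep.repPsh_iff (K739.Rep.isoInv_of_baseChange _ K739.Props.bc_sep) _).1
    ((K739.Diag.repByAlgSpWith_diag_iff _ (FibCat.toSelf 𝒳) hX h𝒮).1 hsep W x₁ x₂ φ)
  obtain ⟨_, _, h2⟩ := (K739.Rep.repPsh_iff (K739.Rep.isoInv_of_baseChange _ K739.Props.bc_qc) _).1
    ((K739.Diag.repByAlgSpWith_diag_iff _ (FibCat.toSelf 𝒳) hX h𝒮).1 hqc W x₁ x₂ φ)
  obtain ⟨_, _, h3⟩ := (K739.Rep.repPsh_iff (K739.Rep.isoInv_of_respectsIso _) _).1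
    ((K739.Diag.repByAlgSpWith_diag_iff _ (FibCat.toSelf 𝒳) hX h𝒮).1 hlqf W x₁ x₂ φ)
  let f : (⟨psh (FibCat.toSelf 𝒳) x₁ x₂ φ hX h𝒮, hsh⟩ : AlgSp.Sp S) ⟶ (AlgSp.yon S).obj W :=
    ObjectProperty.homMk (K739.Isom.toBase (FibCat.toSelf 𝒳) x₁ x₂ φ hX h𝒮)
  obtain ⟨Z, ⟨γ⟩⟩ := K613.exists_iso_of_lqf hA f h3 h1
  obtain ⟨f', hf'⟩ := (yon S).map_surjective (γ.hom ≫ f)
  let β : (AlgSp.pyon S).obj Z ≅ psh (FibCat.toSelf 𝒳) x₁ x₂ φ hX h𝒮 := (sheafToPresheaf (AlgSp.J S) _).mapIso γ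
  have hβ : (AlgSp.pyon S).map f' = β.hom ≫ toBase (FibCat.toSelf 𝒳) x₁ x₂ φ hX h𝒮 :=
    congrArg (fun m => m.hom) hf'
  have i1 : IsSeparated f'.left := by
    refine (isSeparatedMor_yon_map_iff f').1 ?_
    rw [hf']
    exact (MorphismProperty.cancel_left_of_respectsIso _ γ.hom f).2 h1
  have i2 : QuasiCompact f'.left := by
    refine (K738.isQuasiCompactMor_yon_iff f').1 ?_
    rw [hf']
    exact (MorphismProperty.cancel_left_of_respectsIso _ γ.hom f).2 h2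
  have i3 : LocallyOfFiniteType f'.left := by
    have h4 : LocP (@LocallyQuasiFinite ⊓ @LocallyOfFiniteType) ((yon S).map f') := by
      rw [hf']
      exact (MorphismProperty.cancel_left_of_respectsIso _ γ.hom f).2 h3
    exact (locP_yon_map h4).2
  have hE := isEquivOver_fpChart x₁ x₂ φ hX h𝒮 β
  have hc : AlgSt.RepByAlgSpWith (AlgSp.LocP @Smooth) (sndChart x₁ x₂ φ hX h𝒮 β) :=
    (K740.SpDM.repByAlgSpWith_equiv_comp hE).2 (K734.Rep.repByAlgSpWith_fpSnd _ _ _ hω)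
  let V : Z.left.Opens := ⟨AlgSt.Points.ofChart (sndChart x₁ x₂ φ hX h𝒮 β) ⁻¹' D,
    hDo.preimage (K736.QC.continuous_ofChart h𝒳 _)⟩
  have hVd : Dense (V : Set Z.left) := hDd.preimage (K736.QC.isOpenMap_ofChart h𝒳 hc)
  have hL : LiftOn f'.left (V : Set Z.left) := by
    refine liftOn_of_uniqLimOn hX h𝒮 hu x₁ x₂ φ β f' hβ _ fun K _ s κ hκ => ?_
    have h4 : κ.left (IsLocalRing.closedPoint K) ∈ (V : Set Z.left) := hκ ⟨_, rfl⟩
    have h5 : AlgSt.Points.mk ⟨K, s, x₂.obj (pt (κ ≫ f')), x₂.w_obj _⟩ =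
        AlgSt.Points.ofChart (sndChart x₁ x₂ φ hX h𝒮 β) (κ.left (IsLocalRing.closedPoint K)) := by
      have h6 := congrArg (AlgSt.Points.map (sndChart x₁ x₂ φ hX h𝒮 β)) (mk_overCat s κ (IsLocalRing.closedPoint K))
      have h7 : Sec.u (β.hom.app (op (Over.mk s)) ⟨κ⟩) = κ ≫ f' :=
        congrArg ULift.down (congrArg (fun m => m.app (op (Over.mk s)) (⟨κ⟩ : ((AlgSp.pyon S).obj Z).obj (op (Over.mk s)))) hβ).symm
      have h8 : ∀ w : Over.mk s ⟶ W, w = κ ≫ f' →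
          (AlgSt.Points.mk ⟨K, s, x₂.obj (pt (κ ≫ f')), x₂.w_obj _⟩ : AlgSt.Points 𝒳) =
            AlgSt.Points.mk ⟨K, s, x₂.obj (pt w), x₂.w_obj _⟩ := by
        rintro _ rfl
        rfl
      exact (h8 _ h7).trans h6
    rw [h5]
    exact h4
  have hp : IsProper f'.left := isProper_of_liftOn f'.left V hVd hL
  refine ⟨⟨(yon S).obj Z, IsAlgSpace.yon_obj Z⟩, β, ?_⟩
  have h4 := (K738.isProperMor_yon_iff f').2 hp
  rw [hf'] at h4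
  exact h4

/-- **Separatedness from uniqueness of limits on an open dense set.** -/
theorem isSeparatedOver [IsLocallyNoetherian S] (h𝒳 : AlgSt.IsAlgStack Scheme.fppfPrecoverage 𝒳)
    (hsep : AlgSt.RepByAlgSpWith AlgSp.IsSeparatedMor (FibCat.diag (FibCat.toSelf 𝒳)))
    (hqc : AlgSt.RepByAlgSpWith AlgSp.IsQuasiCompactMor (FibCat.diag (FibCat.toSelf 𝒳)))
    (hlqf : AlgSt.RepByAlgSpWith (AlgSp.LocP (@LocallyQuasiFinite ⊓ @LocallyOfFiniteType))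
      (FibCat.diag (FibCat.toSelf 𝒳)))
    (hft : AlgSt.LocQ (AlgSp.LocP @LocallyOfFiniteType) (FibCat.toSelf 𝒳))
    {D : Set (AlgSt.Points 𝒳)} (hDo : IsOpen D) (hDd : Dense D) (hu : UniqLimOn 𝒳 D) :
    AlgSt.IsSeparatedOver 𝒳 := by
  have hX := h𝒳.isStack.1
  have h𝒮 : AlgSt.IsAlgStack Scheme.fppfPrecoverage (FibCat.selfOver (Over S)) :=
    K740.SpDM.isAlgStack_of_repByAlgSp (K740.DiagRep.repByAlgSp_selfOver S)
  have hS := h𝒮.isStack.1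
  obtain ⟨W, ω, hW, hω, hωs⟩ := K863.NoethAtlas.exists_atlas h𝒳 h𝒮 (FibCat.toSelf 𝒳) hft (fun V y hy => by
    have := K902.SelfChart.smooth_of_repByAlgSpWith hy
    exact LocallyOfFiniteType.isLocallyNoetherian V.hom)
  have hR : K739.Rep.RepAt AlgSp.IsProperMor (FibCat.fpFst ω (FibCat.diag (FibCat.toSelf 𝒳))) := by
    rw [K739.Isom.y_eq (FibCat.toSelf 𝒳) ω,
      K739.Rep.repAt_iff_repPsh _ _ (K739.Isom.isEquivOver_toFp (FibCat.toSelf 𝒳) _ _ _ hX hS), K739.Isom.prMap_toFp]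
    exact repPsh_proper h𝒳 hS hsep hqc hlqf hDo hDd hu hW _ _ _ hω
  obtain ⟨F₀, e₀, he₀, hP⟩ := hR
  refine K745.Refine.repByAlgSpWith_of_atlas hω hωs (K739.Alg.repByAlgSp1_of hsep) _ ?_ ?_ F₀.property e₀ he₀ hP
  · intro F F' U U' a g p₁ p₂ hF hF' sq ha
    exact K739.Props.bc_proper hF (AlgSp.IsAlgSpace.yon_obj _) hF' (AlgSp.IsAlgSpace.yon_obj _) _ _ _ _ sq ha
  · intro F F' U U' a g p₁ p₂ hF hF' hg hgs sq ha
    refine K739.Props.fppfDesc_proper hF (AlgSp.IsAlgSpace.yon_obj _) hF' a _ _ _ ?_ sq ha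
    exact (AlgSp.repWith_yon_map_iff _ _).2 ⟨⟨hgs, inferInstance⟩, inferInstance⟩

end K742.SepDense
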