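import Groth.Agent.CurvSt.K742.SepD2
import Groth.Agent.CurvSt.K508.SepFinal
import Groth.Agent.CurvSt.K744.DensFinal
import Groth.Agent.CurvSt.K169.SRZero
import Groth.Agent.CurvSt.K897.UniqModel
import Groth.Agent.EssDim.K995.GenusField
import Groth.Agent.Desc.LQF

/-!
# Separatedness of the stack of stable curves of genus at least two over a locally Noetherian base (helper742)

* `UniqFamSm g n` : uniqueness of limits of stable pointed families with smooth generic fibre;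
* `uniqLimOn` : uniqueness of limits in `Mbar S g n` for objects with generic point in the smooth locus;
* `uniqFamSm_zero` : the case `n = 0`, `2 ≤ g`;
* `sepZero` : `Mbar S g 0` is separated over `S`.
-/

set_option autoImplicit false
set_option backward.isDefEq.respectTransparency false
set_option backward.isDefEq.respectTransparency.types false

universe v' w' v w u

open CategoryTheory CategoryTheory.Limits AlgebraicGeometry Opposite CurvSt

namespace K742.SepMain

open K742.SepDense K604.DvrClosed K508.Uniq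

/-- Uniqueness of limits of stable pointed families with smooth generic fibre. -/
def UniqFamSm (g n : ℕ) : Prop :=
  ∀ (R : Type u) [CommRing R] [IsDomain R] [IsDiscreteValuationRing R], IsAlgClosed (IsLocalRing.ResidueField R) →
    ∀ (L : Type u) [Field L] [Algebra R L] [IsFractionRing R L] {X Y C : Scheme.{u}}
      (p : X ⟶ Spec (CommRingCat.of R)) (q : Y ⟶ Spec (CommRingCat.of R))
      (σ : Fin n → (Spec (CommRingCat.of R) ⟶ X)) (hσ : ∀ k, σ k ≫ p = 𝟙 _)
      (τ : Fin n → (Spec (CommRingCat.of R) ⟶ Y)) (hτ : ∀ k, τ k ≫ q = 𝟙 _)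
      (_ : CurvSt.IsStableFam p σ hσ g) (_ : CurvSt.IsStableFam q τ hτ g)
      (f : C ⟶ Spec (CommRingCat.of L)) (x : Fin n → (Spec (CommRingCat.of L) ⟶ C)) (_ : ∀ k, x k ≫ f = 𝟙 _)
      (_ : IsSmoothPtdFam f x g)
      (i : C ⟶ X) (_ : IsPullback i f p (gen R L)) (j : C ⟶ Y) (_ : IsPullback j f q (gen R L))
      (_ : ∀ k, x k ≫ i = gen R L ≫ σ k) (_ : ∀ k, x k ≫ j = gen R L ≫ τ k),
      ∃ e : X ≅ Y, e.hom ≫ q = p ∧ i ≫ e.hom = j

/-- **Uniqueness of limits in the moduli stack, on the smooth locus.** -/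
theorem uniqLimOn {g n : ℕ} (h : UniqFamSm.{u} g n) (S : Scheme.{u}) (h𝒳 : FibCat.IsFibGrpd (Mbar S g n).p) :
    UniqLimOn (Mbar S g n)
      (Set.range (AlgSt.Points.map (AlgSt.subIncl (Mbar S g n) (K508.SmLocus.Sm S g n)))) := by
  intro R _ _ _ hR L _ _ _ a A₁ A₂ B hB r₁ r₂ hD h1 h2
  have hsm : K508.SmLocus.Sm S g n B :=
    (K169.PFMbar.mem_range_iff h𝒳 (K508.SmLocus.openLocus S g n) _).1 hD
  obtain ⟨⟨b₁, X, p, σ, hσ⟩, P₁⟩ := A₁
  obtain ⟨⟨b₂, Y, q, τ, hτ⟩, P₂⟩ := A₂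
  obtain ⟨⟨b, C, f, x, hx⟩, P⟩ := B
  have e1 : b₁ = Over.mk a := IsHomLift.codomain_eq (CurvSt.Mbar S g n).p (jj R L a) r₁
  have e2 : b₂ = Over.mk a := IsHomLift.codomain_eq (CurvSt.Mbar S g n).p (jj R L a) r₂
  have e3 : b = Over.mk (Spec.map (CommRingCat.ofHom (algebraMap R L)) ≫ a) := hB
  clear hD
  subst e1 e2 e3
  have m1 : r₁.hom.base = jj R L a := by
    have h3 := IsHomLift.fac (CurvSt.Mbar S g n).p (jj R L a) r₁
    rw [h3]
    exact ((Category.id_comp _).trans (Category.comp_id _)).symm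
  have m2 : r₂.hom.base = jj R L a := by
    have h3 := IsHomLift.fac (CurvSt.Mbar S g n).p (jj R L a) r₂
    rw [h3]
    exact ((Category.id_comp _).trans (Category.comp_id _)).symm
  have q1 := r₁.hom.cart
  have q2 := r₂.hom.cart
  have s1 := r₁.hom.w_sect
  have s2 := r₂.hom.w_sect
  rw [m1] at q1 s1
  rw [m2] at q2 s2
  obtain ⟨e, he1, he2⟩ := h R hR L p q σ hσ τ hτ P₁ P₂ f x hx hsm r₁.hom.top q1 r₂.hom.top q2 s1 s2
  have hq : IsProper q := P₂.2.1
  have i1 : IsIso (𝟙 (Spec (CommRingCat.of R))) := IsIso.id _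
  have sq : IsPullback e.hom p q (𝟙 (Spec (CommRingCat.of R))) :=
    IsPullback.of_horiz_isIso ⟨by rw [he1]; exact (Category.comp_id _).symm⟩
  have hs : ∀ k, σ k ≫ e.hom = τ k := by
    intro k
    refine section_ext R L q ?_ ?_
    · rw [Category.assoc, he1, hσ, hτ]
    · have h3 : gen R L ≫ σ k ≫ e.hom = x k ≫ r₁.hom.top ≫ e.hom := by
        rw [← Category.assoc, ← Category.assoc]
        exact congrArg (fun z => z ≫ e.hom) (s1 k).symm
      rw [h3, he2]
      exact s2 k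
  let α₀ : CurvSt.PtFamObj.Hom (⟨Over.mk a, X, p, σ, hσ⟩ : CurvSt.PtFamObj S n) ⟨Over.mk a, Y, q, τ, hτ⟩ :=
    ⟨𝟙 _, e.hom, sq, fun k => (hs k).trans (Category.id_comp _).symm⟩
  let α : (⟨⟨Over.mk a, X, p, σ, hσ⟩, P₁⟩ : (CurvSt.Mbar S g n).obj) ⟶ ⟨⟨Over.mk a, Y, q, τ, hτ⟩, P₂⟩ := ⟨α₀⟩
  refine ⟨α, IsHomLift.map (CurvSt.Mbar S g n).p α, ?_⟩
  apply ObjectProperty.hom_ext
  refine CurvSt.PtFamObj.hom_ext ?_ he2
  change r₁.hom.base ≫ 𝟙 _ = r₂.hom.base
  rw [m1, m2]
  exact Category.comp_id _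

/-- Uniqueness of limits for unpointed curves of genus at least two with smooth generic fibre. -/
theorem uniqFamSm_zero {g : ℕ} (hg : 2 ≤ g) : UniqFamSm.{u} g 0 := by
  intro R _ _ _ hR L _ _ _ X Y C p q σ hσ τ hτ hX hY f x hx hsm i hi j hj hxi hxj
  obtain rfl : σ = Fin.elim0 := Subsingleton.elim _ _
  obtain rfl : τ = Fin.elim0 := Subsingleton.elim _ _
  let e : FractionRing R ≃ₐ[R] L := FractionRing.algEquiv R L
  let E : Spec (CommRingCat.of L) ≅ Spec (CommRingCat.of (FractionRing R)) :=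
    Scheme.Spec.mapIso (RingEquiv.toCommRingCatIso e.toRingEquiv).op
  have hE : E.hom ≫ gen R (FractionRing R) = gen R L := by
    change Spec.map (CommRingCat.ofHom (e.toRingEquiv : FractionRing R →+* L)) ≫
      Spec.map (CommRingCat.ofHom (algebraMap R (FractionRing R))) = Spec.map (CommRingCat.ofHom (algebraMap R L))
    rw [← Spec.map_comp, ← CommRingCat.ofHom_comp]
    congr 2
    ext r
    exact e.commutes r
  have hf : ModFun.IsCurveOfGenus g (f ≫ E.hom) :=
    K995.GenusField.isCurveOfGenus_of_isPullback (IsPullback.of_horiz_isIso ⟨by simp⟩ :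
      IsPullback (𝟙 C) (f ≫ E.hom) f E.inv) hsm.1
  obtain ⟨h1, h2, h3⟩ := K169.SRZero.curve_data hf
  have hi' : IsPullback i (f ≫ E.hom) p (gen R (FractionRing R)) :=
    IsPullback.of_iso hi (Iso.refl _) (Iso.refl _) E (Iso.refl _) (by simp) (by simp) (by simp) (by simp [hE])
  have hj' : IsPullback j (f ≫ E.hom) q (gen R (FractionRing R)) :=
    IsPullback.of_iso hj (Iso.refl _) (Iso.refl _) E (Iso.refl _) (by simp) (by simp) (by simp) (by simp [hE])
  obtain ⟨e', he', -⟩ := K897.UniqModel.existsUnique_iso h1 h2 (h3 ▸ hg) (h3 ▸ hX) (h3 ▸ hY) i hi' j hj'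
  exact ⟨e', he'.1, he'.2⟩

open AlgSp in
/-- The diagonal of `Mbar` is locally quasi-finite and locally of finite type. -/
theorem lqf_diag (S : Scheme.{u}) {g n : ℕ} (hg : 3 ≤ 2 * g + n) :
    AlgSt.RepByAlgSpWith (AlgSp.LocP (@LocallyQuasiFinite ⊓ @LocallyOfFiniteType))
      (FibCat.diag (FibCat.toSelf (Mbar S g n))) := by
  intro U y
  obtain ⟨F, e, he, hP⟩ := K316.MbarAlg.isDMOver_mbar S hg U y
  refine ⟨F, e, he, fun _ _ a b h ha hb hw => ?_⟩
  obtain ⟨h1, h2⟩ := hP a b h ha hb hw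
  exact ⟨Groth.Agent.Desc.LQF.of_unramified h.left, h1⟩

/-- **Separatedness from uniqueness of limits of families with smooth generic fibre.** -/
theorem isSeparatedOver {g n : ℕ} (hg : 3 ≤ 2 * g + n) (h : UniqFamSm.{u} g n) (S : Scheme.{u})
    [IsLocallyNoetherian S] : AlgSt.IsSeparatedOver (Mbar S g n) := by
  have hs := std_mbar S hg
  have h𝒳 := hs.alg.isStack.1
  exact K742.SepDense.isSeparatedOver hs.alg hs.sep hs.qc (lqf_diag S hg) hs.lft
    (K169.PFMbar.isOpen_range h𝒳 (K508.SmLocus.openLocus S g n)) (K744.DensFinal.dense_sm S hg) (uniqLimOn h S h𝒳)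

/-- **Separatedness of `Mbar S g 0`, `2 ≤ g`, over locally Noetherian bases.** -/
theorem sepZero : K508.SepFinal.SepZero.{u} := fun _ hg S _ =>
  isSeparatedOver (by omega) (uniqFamSm_zero hg) S

end K742.SepMain
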