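import Groth.Agent.CurvSt.K742.BlowStep
import Groth.Agent.Sga7.H591.GeoFib
import Groth.Agent.S11100
/-!
K742.SepSect : distinct sections of a regular proper nodal family over a discrete valuation ring become disjoint after
finitely many blow-ups.
-/

set_option autoImplicit false
universe u

open CategoryTheory CategoryTheory.Limits AlgebraicGeometry IsLocalRing

namespace K742.SepSect

open K742.BlowStep K742.Sect

variable {R : Type u} [CommRing R] [IsDomain R] [IsDiscreteValuationRing R]

/-- The total order of contact. -/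
noncomputable def tot {n : ℕ} {X : Scheme.{u}} (τ : Fin n → (Spec (CommRingCat.of R) ⟶ X)) : ℕ :=
  ∑ i, ∑ j, ord (τ i) (τ j)

theorem ord_self {X : Scheme.{u}} (a : Spec (CommRingCat.of R) ⟶ X) : ord a a = 0 := by
  unfold ord
  have : {m : ℕ | ¬ Agree (maximalIdeal R ^ m) a a} = ∅ := by
    ext m
    simp only [Set.mem_setOf_eq, Set.mem_empty_iff_false, iff_false, not_not]
    exact Agree.refl _ _
  rw [this, Nat.sInf_empty]

theorem exists_separated {n : ℕ} (N : ℕ) : ∀ {X : Scheme.{u}} (p : X ⟶ Spec (CommRingCat.of R)) [IsProper p]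
    (_ : Curv2.IsNodalFamily p)
    (_ : ∀ x : X, IsRegularLocalRing (X.presheaf.stalk x)) (τ : Fin n → (Spec (CommRingCat.of R) ⟶ X))
    (_ : ∀ i, τ i ≫ p = 𝟙 _) (_ : Function.Injective τ) (_ : tot τ ≤ N),
    ∃ (X' : Scheme.{u}) (b : X' ⟶ X) (τ' : Fin n → (Spec (CommRingCat.of R) ⟶ X')), IsProper b ∧
      Curv2.IsNodalFamily (b ≫ p) ∧
      (∀ x : X', IsRegularLocalRing (X'.presheaf.stalk x)) ∧ IsoOff b p ∧ (∀ i, τ' i ≫ b = τ i) ∧
      ∀ i j, i ≠ j → τ' i (closedPoint R) ≠ τ' j (closedPoint R) := by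
  induction N with
  | zero =>
    intro X p _ hn hr τ hτ hinj hN
    refine ⟨X, 𝟙 X, τ, inferInstance, by simpa using hn, hr, IsoOff.id p, fun i => Category.comp_id _, ?_⟩
    intro i j hij h
    have h1 : 0 < ord (τ i) (τ j) := ord_pos fun h => hij (hinj h)
    have h2 : ord (τ i) (τ j) ≤ ∑ j, ord (τ i) (τ j) :=
      Finset.single_le_sum (f := fun j => ord (τ i) (τ j)) (fun _ _ => Nat.zero_le _) (Finset.mem_univ j)
    have h3 : ∑ j, ord (τ i) (τ j) ≤ tot τ :=
      Finset.single_le_sum (f := fun i => ∑ j, ord (τ i) (τ j)) (fun _ _ => Nat.zero_le _) (Finset.mem_univ i)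
    omega
  | succ N ih =>
    intro X p _ hn hr τ hτ hinj hN
    by_cases hdis : ∀ i j, i ≠ j → τ i (closedPoint R) ≠ τ j (closedPoint R)
    · exact ⟨X, 𝟙 X, τ, inferInstance, by simpa using hn, hr, IsoOff.id p, fun i => Category.comp_id _, hdis⟩
    · push Not at hdis
      obtain ⟨i, j, hij, hc⟩ := hdis
      have hfl := hn.1
      have hfp := hn.2.1
      have hsm := Groth.Agent.Sga7.H591.GeoFib.smoothRel p hn
      have hi := Groth.Agent.S11100.result p hr (τ i) (hτ i) (closedPoint R)
      obtain ⟨X', b, hb1, hb2, hb3, hb4, hb5, hb6⟩ := exists_step p hn hr (τ i) (hτ i) p.smoothLocus hi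
      choose τ' hτ' using fun l => hb5 (τ l) (hτ l)
      have hs : ∀ l, τ' l ≫ b ≫ p = 𝟙 _ := fun l => by rw [← Category.assoc, hτ', hτ]
      have hinj' : Function.Injective τ' := by
        intro k l h
        apply hinj
        rw [← hτ' k, ← hτ' l, h]
      have hle : ∀ k l, ord (τ' k) (τ' l) ≤ ord (τ k) (τ l) := by
        intro k l
        by_cases hkl : k = l
        · rw [hkl, ord_self]
          exact Nat.zero_le _
        · have h1 : τ' k ≫ b ≠ τ' l ≫ b := by
            rw [hτ', hτ']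
            exact fun h => hkl (hinj h)
          have h2 := ord_le_ord b h1
          rwa [hτ', hτ'] at h2
      have hlt : ord (τ' i) (τ' j) < ord (τ i) (τ j) := by
        have h1 : τ' i ≫ b ≠ τ' j ≫ b := by
          rw [hτ', hτ']
          exact fun h => hij (hinj h)
        have h2 := ord_lt_ord b h1 fun m hm => hb6 _ _ m (hs i) (hs j) (by rw [hτ']) (by rw [hτ', hc]) hm
        rwa [hτ', hτ'] at h2
      have htot : tot τ' < tot τ := by
        unfold tot
        apply Finset.sum_lt_sum (fun k _ => Finset.sum_le_sum fun l _ => hle k l)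
        exact ⟨i, Finset.mem_univ i, Finset.sum_lt_sum (fun l _ => hle i l) ⟨j, Finset.mem_univ j, hlt⟩⟩
      have hb1' : IsProper (b ≫ p) := inferInstance
      obtain ⟨X'', b', τ'', h1, h2, h3, h4, h5, h6⟩ := ih (b ≫ p) hb2 hb3 τ' hs hinj' (by omega)
      refine ⟨X'', b' ≫ b, τ'', inferInstance, by simpa using h2, h3, hb4.comp h4, fun l => ?_, h6⟩
      rw [← Category.assoc, h5, hτ']

end K742.SepSect
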